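import Cfsg.Agent.H531.TQ.Rgd
import Cfsg.Agent.H531.RMChev
import Cfsg.Agent.H531.FMRows

/-!
# `STQ` for the Chevalley groups `G₂`, `F₄`, `E₆`, `E₇`, `E₈`
-/

set_option autoImplicit false
set_option linter.unusedSectionVars false

namespace Cfsg.Agent.H531.TQ

open CoxeterSystem Subgroup
open Cfsg Cfsg.Lie Cfsg.Lie.ChevalleyDatum
open Cfsg.Agent.ChevalleyStructure Cfsg.Agent.ChevalleyStructure.Elts Cfsg.Agent.ChevalleyStructure.CoxeterGeom
  Cfsg.Agent.ChevalleyStructure.CoxeterGeomTypes Cfsg.Agent.ChevalleyStructure.NPerm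
open Cfsg.Agent.Tits.Roots Cfsg.Agent.Tits.Core Cfsg.Agent.Tits.Exchange Cfsg.Agent.Nodes.Reps
  Cfsg.Agent.Nodes.BNOf Cfsg.Agent.Nodes.RGDChev Cfsg.Agent.Nodes.Bruhat Cfsg.Agent.Nodes.Coroot
  Cfsg.Agent.KFacts.RgdTI Cfsg.Agent.KFacts.RgdField Cfsg.Agent.KFacts.RgdChevCoord Cfsg.Agent.BpExc.TorCent
  Cfsg.Agent.BpExc.TorChev
open Cfsg.Agent.ChevalleyStructure.SL2Hom Cfsg.Agent.H531 Cfsg.Agent.H531.RMChev
open Cfsg.Agent.H967.CopMat Cfsg.Agent.H967.CopRow

universe u

section sl2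

variable {K : Type u} [Field K]

theorem diagSL_eq (u : Kˣ) : diagSL K u =
    up (u : K) * lo (-(u : K)⁻¹) * up (u : K) * (up (-1) * lo (-(-1 : K)⁻¹) * up (-1)) := by
  have hu : (u : K) ≠ 0 := u.ne_zero
  apply Subtype.ext
  show !![(u : K), 0; 0, ((u⁻¹ : Kˣ) : K)] = !![1, (u : K); 0, 1] * !![1, 0; -(u : K)⁻¹, 1] * !![1, (u : K); 0, 1] *
    (!![1, (-1 : K); 0, 1] * !![1, 0; -(-1 : K)⁻¹, 1] * !![1, (-1 : K); 0, 1])
  rw [Units.val_inv_eq_inv_val]
  ext i j
  fin_cases i <;> fin_cases j <;> simp [Matrix.mul_apply, Fin.sum_univ_two, hu]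

end sl2

section tor

variable {D : ChevalleyDatum} {l : ℕ} {M : CoxeterMatrix (Fin l)} (hp : IsType D l M) {K : Type u} [Field K]

/-- The torus of the node `j`. -/
noncomputable def hr (j : Fin l) : Kˣ →* ↥(D.group K) :=
  (psi hp.inList (simple_lt hp.inList (lt_rank hp j)) K).comp (diagSL K)

theorem hr_eq (j : Fin l) (u : Kˣ) : hr hp j u = hc hp j (u : K) := by
  apply Subtype.ext
  show ((psi hp.inList (simple_lt hp.inList (lt_rank hp j)) K (diagSL K u) : ↥(D.group K)) : GL D.Idx K) =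
    hG hp.inList (D.simple j) (u : K)
  rw [diagSL_eq]
  simp only [map_mul, Subgroup.coe_mul, psi_up, psi_lo]
  rw [hG_def, nG_def, nG_def]
  simp only [mul_assoc]

/-- The cocharacter with coefficients `m` on the simple coroots. -/
noncomputable def hL (m : Fin l → ℤ) (u : Kˣ) : ↥(D.group K) :=
  ((List.finRange l).map fun j => hr hp j u ^ m j).prod

theorem hr_mem (j : Fin l) (u : Kˣ) : hr hp j u ∈ TT D K := by
  rw [hr_eq]
  exact hc_mem hp j u.ne_zero

theorem list_mem {G : Type*} [Group G] {T : Subgroup G} {ι : Type*} {f : ι → G} (hf : ∀ j, f j ∈ T) (L : List ι) :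
    (L.map f).prod ∈ T := by
  apply Subgroup.list_prod_mem
  intro x hx
  obtain ⟨j, -, rfl⟩ := List.mem_map.1 hx
  exact hf j

theorem list_mul {G : Type*} [Group G] {T : Subgroup G} (hT : ∀ s ∈ T, ∀ t ∈ T, s * t = t * s) {ι : Type*} {f g : ι → G}
    (hf : ∀ j, f j ∈ T) (hg : ∀ j, g j ∈ T) (L : List ι) :
    (L.map fun j => f j * g j).prod = (L.map f).prod * (L.map g).prod := by
  induction L with
  | nil => simp
  | cons j L ih =>
    rw [List.map_cons, List.prod_cons, List.map_cons, List.prod_cons, List.map_cons, List.prod_cons, ih]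
    have h1 := hT (g j) (hg j) _ (list_mem hf L)
    calc f j * g j * ((L.map f).prod * (L.map g).prod) = f j * (g j * (L.map f).prod) * (L.map g).prod := by group
      _ = f j * ((L.map f).prod * g j) * (L.map g).prod := by rw [h1]
      _ = _ := by group

theorem hL_mem (m : Fin l → ℤ) (u : Kˣ) : hL hp m u ∈ TT D K :=
  list_mem (fun j => (TT D K).zpow_mem (hr_mem hp j u) _) _

/-- as a homomorphism -/
noncomputable def hLh (m : Fin l → ℤ) : Kˣ →* ↥(D.group K) where
  toFun := hL hp m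
  map_one' := by
    unfold hL
    simp only [map_one, one_zpow, List.map_const', List.prod_replicate, one_pow]
  map_mul' u v := by
    unfold hL
    rw [← list_mul (T := TT D K) (TT_comm hp) (fun j => (TT D K).zpow_mem (hr_mem hp j u) _)
      (fun j => (TT D K).zpow_mem (hr_mem hp j v) _)]
    congr 1
    refine List.map_congr_left fun j _ => ?_
    rw [map_mul]
    exact Commute.mul_zpow (TT_comm hp _ (hr_mem hp j u) _ (hr_mem hp j v)) _

theorem hLh_apply (m : Fin l → ℤ) (u : Kˣ) : hLh hp m u = hL hp m u := rfl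

theorem pairing_sr' {I : Type*} [Fintype I] [DecidableEq I] (A : I → I → ℤ) (i j : I) :
    CoxeterGeom.pairing A i (sr j) = A i j := by
  unfold CoxeterGeom.pairing
  rw [Finset.sum_eq_single j]
  · rw [sr_self, mul_one]
  · intro k _ hk
    rw [sr_ne hk, mul_zero]
  · intro hj
    exact absurd (Finset.mem_univ j) hj

/-- the value of the cocharacter on a vector -/
def pr (D : ChevalleyDatum) (l : ℕ) (m : Fin l → ℤ) (x : Fin l → ℤ) : ℤ := ∑ j, m j * pairing (cartanOf D l) j x

theorem pr_add (m x y : Fin l → ℤ) : pr D l m (x + y) = pr D l m x + pr D l m y := by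
  unfold pr
  simp only [pairing_add, mul_add, Finset.sum_add_distrib]

theorem pr_smul (m : Fin l → ℤ) (c : ℤ) (x : Fin l → ℤ) : pr D l m (c • x) = c * pr D l m x := by
  unfold pr
  simp only [pairing_smul, Finset.mul_sum]
  exact Finset.sum_congr rfl fun k _ => by ring

variable {W : Type*} [Group W] (cs : CoxeterSystem M W)

/-- the character of a root as a homomorphism -/
noncomputable def chU [Finite K] (p : ℕ) [Fact p.Prime] [CharP K p] {x : Fin l → ℤ}
    (hx : IsRoot cs hp.isCartan x) : ↥(TT D K) →* Kˣ := MonoidHom.toHomUnits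
    { toFun := fun t => ch hp x t.1
      map_one' := by
        have Cx := (coords (K := K) hp cs p).coord x hx
        have h1 := Cx.chi_mul (one_mem (TT D K)) (one_mem (TT D K))
        rw [mul_one] at h1
        exact (mul_eq_left₀ (Cx.chi_ne_zero (one_mem _))).1 h1.symm
      map_mul' := fun s t => ((coords (K := K) hp cs p).coord x hx).chi_mul s.2 t.2 }

theorem coe_chU [Finite K] (p : ℕ) [Fact p.Prime] [CharP K p] {x : Fin l → ℤ}
    (hx : IsRoot cs hp.isCartan x) (t : ↥(TT D K)) : ((chU hp cs p hx t : Kˣ) : K) = ch hp x t.1 := rfl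

theorem ch_hL [Finite K] (p : ℕ) [Fact p.Prime] [CharP K p] (m : Fin l → ℤ) (u : Kˣ) {x : Fin l → ℤ}
    (hx : IsRoot cs hp.isCartan x) : ch hp x (hL hp m u) = ((u ^ pr D l m x : Kˣ) : K) := by
  obtain ⟨r, hr', e⟩ := (isRoot_iff hp cs x).1 hx
  have h1 : ∀ j : Fin l, chU hp cs p hx ⟨hr hp j u, hr_mem hp j u⟩ = u ^ pairing (cartanOf D l) j x := by
    intro j
    apply Units.ext
    rw [coe_chU]
    show ch hp x (hr hp j u) = _
    rw [hr_eq, ← e, ch_hc hp j u.ne_zero hr', Units.val_zpow_eq_zpow_val, pairing_vec hp j hr']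
  have key : ∀ (L : List (Fin l)) (hm : (L.map fun j => hr hp j u ^ m j).prod ∈ TT D K),
      chU hp cs p hx ⟨(L.map fun j => hr hp j u ^ m j).prod, hm⟩ =
        u ^ (L.map fun j => m j * pairing (cartanOf D l) j x).sum := by
    intro L
    induction L with
    | nil =>
      intro hm
      have h2 : (⟨(([] : List (Fin l)).map fun j => hr hp j u ^ m j).prod, hm⟩ : ↥(TT D K)) = 1 := Subtype.ext rfl
      have h3 : (([] : List (Fin l)).map fun j => m j * pairing (cartanOf D l) j x).sum = 0 := rfl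
      rw [h2, map_one, h3, zpow_zero]
    | cons j L ih =>
      intro hm
      have h2 : (L.map fun j => hr hp j u ^ m j).prod ∈ TT D K :=
        list_mem (fun j => (TT D K).zpow_mem (hr_mem hp j u) _) L
      have h0 : ((j :: L).map fun j => hr hp j u ^ m j).prod = hr hp j u ^ m j * (L.map fun j => hr hp j u ^ m j).prod := by
        rw [List.map_cons, List.prod_cons]
      have h3 : (⟨((j :: L).map fun j => hr hp j u ^ m j).prod, hm⟩ : ↥(TT D K)) =
          (⟨hr hp j u, hr_mem hp j u⟩ : ↥(TT D K)) ^ m j * ⟨(L.map fun j => hr hp j u ^ m j).prod, h2⟩ :=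
        Subtype.ext h0
      rw [h3, map_mul, map_zpow, h1, ih h2, List.map_cons, List.sum_cons, ← zpow_mul, ← zpow_add, mul_comm (m j)]
  have h5 := key (List.finRange l) (hL_mem hp m u)
  have h6 := congrArg Units.val h5
  rw [coe_chU] at h6
  refine h6.trans ?_
  congr 2

theorem pr_eq (m x : Fin l → ℤ) : pr D l m x = ∑ k, (∑ j, m j * cartanOf D l j k) * x k := by
  unfold pr CoxeterGeom.pairing
  simp only [Finset.mul_sum, Finset.sum_mul]
  rw [Finset.sum_comm]
  exact Finset.sum_congr rfl fun k _ => Finset.sum_congr rfl fun j _ => (mul_assoc _ _ _).symm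

theorem pr_sr (m : Fin l → ℤ) (i : Fin l) : pr D l m (sr i) = ∑ j, m j * cartanOf D l j i := by
  rw [pr_eq, Finset.sum_eq_single i]
  · rw [sr_self, mul_one]
  · intro k _ hk
    rw [sr_ne hk, mul_zero]
  · intro hj
    exact absurd (Finset.mem_univ i) hj

theorem pr_rho {m : Fin l → ℤ} (hm : ∀ i, ∑ j, m j * cartanOf D l j i = 2) (x : Fin l → ℤ) :
    pr D l m x = 2 * ht x := by
  rw [pr_eq]
  unfold ht
  rw [Finset.mul_sum]
  exact Finset.sum_congr rfl fun k _ => by rw [hm]

end tor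

section fld

variable {D : ChevalleyDatum} {l : ℕ} {M : CoxeterMatrix (Fin l)} (hp : IsType D l M) {K : Type u} [Field K]

theorem fieldAut_psi (hs : Stab (D.group K)) {r : ℕ} (hr : r < D.nroots) (τ : K ≃+* K)
    (g : Matrix.SpecialLinearGroup (Fin 2) K) :
    fieldAut hs τ (psi hp.inList hr K g) = psi hp.inList hr K (Matrix.SpecialLinearGroup.map (τ : K →+* K) g) :=
  equivariant (psi hp.inList hr K) (fieldAut hs τ) τ
    (fun t => Subtype.ext (by rw [coe_fieldAut, psi_up, psi_up, map_xG]))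
    (fun t => Subtype.ext (by rw [coe_fieldAut, psi_lo, psi_lo, map_xG])) g

theorem fieldAut_hr (hs : Stab (D.group K)) (τ : K ≃+* K) (j : Fin l) (u : Kˣ) :
    fieldAut hs τ (hr hp j u) = hr hp j (Units.map (τ : K →* K) u) := by
  have hr' := simple_lt hp.inList (lt_rank hp j)
  show fieldAut hs τ (psi hp.inList hr' K (diagSL K u)) = psi hp.inList hr' K (diagSL K (Units.map (τ : K →* K) u))
  rw [fieldAut_psi hp hs hr' τ, map_diagSL]

theorem fieldAut_hL (hs : Stab (D.group K)) (τ : K ≃+* K) (m : Fin l → ℤ) (u : Kˣ) :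
    fieldAut hs τ (hL hp m u) = hL hp m (Units.map (τ : K →* K) u) := by
  unfold hL
  rw [map_list_prod, List.map_map]
  congr 1
  refine List.map_congr_left fun j _ => ?_
  show fieldAut hs τ (hr hp j u ^ m j) = _
  rw [map_zpow, fieldAut_hr]

theorem fieldAut_ex (hs : Stab (D.group K)) (τ : K ≃+* K) (r : ℕ) (t : K) :
    fieldAut hs τ (H225.PPow.ex hp r t) = H225.PPow.ex hp r (τ t) := by
  apply Subtype.ext
  rw [coe_fieldAut]
  exact map_xG hp.inList τ r t

end fld

open H225.PPow in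
/-- **The row of a Chevalley group.** -/
theorem chev_stq {D : ChevalleyDatum} {l : ℕ} {M : CoxeterMatrix (Fin l)} (hp : IsType D l M) {K : Type u} [Field K]
    [Finite K] (R₀ : Row (D.group K)) (h2 : 2 ∣ Nat.card ↥(D.group K))
    (B : ℕ) (hB : ∀ r < D.nroots, (ht (vec D l r)).natAbs ≤ B) (m₁ m₂ : Fin l → ℤ)
    (hm₁ : ∀ i, ∑ j, m₁ j * cartanOf D l j i = 2) (i i' : Fin l) (hLR : chkLR D 0 (D.simple i) i = true)
    (hm₂ : ∑ j, m₂ j * cartanOf D l j i = 0) (hm₂' : ∑ j, m₂ j * cartanOf D l j i' ∣ 2)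
    (hsize : ∀ p : ℕ, p.Prime → ¬ p ∣ Nat.card ↥(D.group K) → 4 * B + 1 < 2 ^ p) : STQ ↥(D.group K) := by
  have hfK := Fintype.ofFinite K
  have hGfin : Finite ↥(D.group K) := inferInstance
  -- the characteristic
  obtain ⟨P, hch⟩ := CharP.exists K
  obtain ⟨f, hP, hcardK⟩ := FiniteField.card K P
  have hPf : Fact P.Prime := ⟨hP⟩
  have hf0 : 0 < (f : ℕ) := f.pos
  generalize (f : ℕ) = f at hcardK hf0
  -- the root group datum
  let cs := M.toCoxeterSystem
  have hW := finite_W hp cs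
  have R := rgd (K := K) hp cs P
  have C := coords (K := K) hp cs P
  have hTc := TT_comm (K := K) hp
  have hA := chAdd (K := K) hp cs P
  have hGG := GG_top (K := K) hp cs
  have hsi : D.simple i < D.nroots := simple_lt hp.inList (lt_rank hp i)
  refine STQ.of_set (fun β => ∃ τ : K ≃+* K, β = fieldAut R₀.stab τ) (fun A hA => ?_) ?_
  · obtain ⟨g, hg⟩ := FieldConjS.of_row R₀ A hA
    exact ⟨g, hg⟩
  rintro p q hpp hq hpG hqG β ⟨τ, rfl⟩ hβ hne
  have hpf : p ∣ f := dvd_degree (fieldAut R₀.stab) hP hcardK hpp hβ hne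
  have hbig : 4 * B + 1 < Nat.card K := by
    refine (hsize p hpp hpG).trans_le ?_
    rw [Nat.card_eq_fintype_card, hcardK]
    exact (Nat.pow_le_pow_left hP.two_le p).trans (Nat.pow_le_pow_right hP.pos (Nat.le_of_dvd hf0 hpf))
  -- the generator
  obtain ⟨u, hu⟩ := IsCyclic.exists_generator (α := (⊤ : Subgroup Kˣ))
  have hu' : ∀ x : Kˣ, x ∈ zpowers (u : Kˣ) := fun x => by
    obtain ⟨k, hk⟩ := mem_zpowers_iff.1 (hu ⟨x, mem_top x⟩)
    refine mem_zpowers_iff.2 ⟨k, ?_⟩
    have := congrArg Subtype.val hk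
    rwa [Subgroup.coe_zpow] at this
  have hou : orderOf (u : Kˣ) = Nat.card K - 1 := by
    rw [orderOf_eq_card_of_forall_mem_zpowers hu', Nat.card_units]
  -- the moved elements
  have hmove : ∀ (m : Fin l → ℤ) (k : Fin l), pr D l m (sr k) ∣ 2 →
      fieldAut R₀.stab τ (hL hp m (u : Kˣ)) ∈ zpowers (hL hp m (u : Kˣ)) ∧
        fieldAut R₀.stab τ (hL hp m (u : Kˣ)) ≠ hL hp m (u : Kˣ) := by
    intro m k hk
    have h1 := field_x2' h2 (fieldAut R₀.stab) (⊤ : Subgroup Kˣ) ((hLh hp m).comp (⊤ : Subgroup Kˣ).subtype)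
      (by
        intro τ v v' hv
        show fieldAut R₀.stab τ (hL hp m (v : Kˣ)) = hL hp m (v' : Kˣ)
        rw [fieldAut_hL]
        congr 1
        exact Units.ext hv.symm)
      (by
        intro v hv
        have hv' : hL hp m (v : Kˣ) = 1 := hv
        have h3 := ch_hL hp cs P m (v : Kˣ) (isRoot_sr cs hp.isCartan k)
        have h4 : ((1 : Kˣ) : K) = (((v : Kˣ) ^ pr D l m (sr k) : Kˣ) : K) := by
          rw [← h3, hv']
          have h5 := (C.coord (sr k) (isRoot_sr cs hp.isCartan k)).chi_mul (one_mem (TT D K)) (one_mem _)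
          rw [mul_one] at h5
          exact ((mul_eq_left₀ ((C.coord (sr k) (isRoot_sr cs hp.isCartan k)).chi_ne_zero (one_mem _))).1
            h5.symm).symm
        have h5 : (v : Kˣ) ^ pr D l m (sr k) = 1 := (Units.ext h4).symm
        obtain ⟨c, hc⟩ := hk
        apply Subtype.ext
        show (v : Kˣ) ^ 2 = 1
        have h6 : (v : Kˣ) ^ (2 : ℤ) = 1 := by rw [hc, zpow_mul, h5, one_zpow]
        exact_mod_cast h6)
      1 (fun p' hp' h => absurd (Nat.dvd_one.1 h) hp'.one_lt.ne') τ (fun g _ => mem_top _)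
      (by
        intro τ' hτ'
        have : τ' = 1 := by
          apply RingEquiv.ext
          intro x
          rcases eq_or_ne x 0 with rfl | hx
          · exact map_zero _
          · exact hτ' (Units.mk0 x hx) (mem_top _)
        rw [this, map_one, one_pow]) hpp hpG hβ hne u hu
    exact ⟨h1.1, h1.2.1⟩
  obtain ⟨hz₁, hn₁⟩ := hmove m₁ i (by rw [pr_sr, hm₁])
  obtain ⟨hz₂, hn₂⟩ := hmove m₂ i' (by rw [pr_sr]; exact hm₂')
  -- the regular element
  have hx₁ : centralizer ({hL hp m₁ (u : Kˣ)} : Set ↥(D.group K)) ≤ TT D K := by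
    have hBr : ∀ a, IsRoot cs hp.isCartan a → (ht a).natAbs ≤ B := by
      intro a ha
      obtain ⟨r, hr', rfl⟩ := (isRoot_iff hp cs a).1 ha
      exact hB r hr'
    refine centralizer_le_T R C hGG hTc hA (hL_mem hp m₁ _) (fun a b ha hb hab => ?_) (fun a ha h1 => ?_)
    · rw [ch_hL hp cs P m₁ _ ha, ch_hL hp cs P m₁ _ hb, pr_rho hm₁, pr_rho hm₁] at hab
      have h1 := Units.ext hab
      have h3 : (u : Kˣ) ^ (2 * ht a - 2 * ht b) = 1 := by rw [zpow_sub, h1, mul_inv_cancel]
      have h4 := orderOf_dvd_iff_zpow_eq_one.2 h3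
      rw [hou] at h4
      by_contra hcon
      have h5 := Int.natAbs_dvd_natAbs.2 h4
      rw [Int.natAbs_natCast] at h5
      have h6 := Nat.le_of_dvd (Int.natAbs_pos.2 (by omega)) h5
      have h7 := hBr a ha
      have h8 := hBr b hb
      omega
    · rw [ch_hL hp cs P m₁ _ ha, pr_rho hm₁] at h1
      have h3 : (u : Kˣ) ^ (2 * ht a) = 1 := Units.ext h1
      have h4 := orderOf_dvd_iff_zpow_eq_one.2 h3
      rw [hou] at h4
      have h9 : ht a ≠ 0 := Nodes.Slope.ht_ne_zero ha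
      have h5 := Int.natAbs_dvd_natAbs.2 h4
      rw [Int.natAbs_natCast] at h5
      have h6 := Nat.le_of_dvd (Int.natAbs_pos.2 (by omega)) h5
      have h7 := hBr a ha
      omega
  -- the root element
  have L : LR (rgd (K := K) hp cs P) (sr i) := lr_tab hp cs P (d := 0) (dvd_zero _) hLR
  set v : ↥(D.group K) := ex hp (D.simple i) 1 with hv
  have hvX : v ∈ XX D l K (sr i) := by
    rw [← vec_simple hp i]
    exact (mem_XX_vec hp hsi).2 ⟨_, rfl⟩
  have hv1 : v ≠ 1 := ex_ne_one hp hsi one_ne_zero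
  have hβv : fieldAut R₀.stab τ v = v := by rw [hv, fieldAut_ex, map_one]
  have hsri := isRoot_sr cs hp.isCartan i
  have hh₂ : hL hp m₂ (u : Kˣ) * v = v * hL hp m₂ (u : Kˣ) := by
    have h3 : sr i ∈ BpExc.TorCent.Sx cs hp.isCartan (ch (K := K) hp) (hL hp m₂ (u : Kˣ)) := by
      refine ⟨hsri, ?_⟩
      rw [ch_hL hp cs P m₂ _ hsri, pr_sr, hm₂, zpow_zero, Units.val_one]
    have h4 := BpExc.TorCent.X_le_centralizer C (hL_mem hp m₂ _) h3 hvX
    exact (mem_centralizer_singleton_iff.1 h4).symm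
  refine rgd_row (R := R) hP hGG hTc i hq hqG (fieldAut R₀.stab τ) hx₁ hz₁ hn₁ L hvX hv1 hβv (hL_mem hp m₂ _) hh₂
    hz₂ hn₂ (fun hq2 hqT => ?_)
  -- the torus
  have hqf : Fact q.Prime := ⟨hq⟩
  have hexp : ∀ t ∈ TT D K, t ^ (Nat.card K - 1) = 1 := by
    intro t ht
    have h3 := TT_le hp ht
    induction h3 using Subgroup.closure_induction with
    | mem x hx =>
      obtain ⟨j, c, hc0, rfl⟩ := hx
      have h4 : hc hp j c = hr hp j (Units.mk0 c hc0) := (hr_eq hp j (Units.mk0 c hc0)).symm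
      rw [h4, ← map_pow, ← Nat.card_units, pow_card_eq_one', map_one]
    | one => rw [one_pow]
    | mul x y hx hy h4 h5 =>
      have hT : ∀ g ∈ Subgroup.closure {g | ∃ (j : Fin l) (c : K), c ≠ 0 ∧ g = hc hp j c}, g ∈ TT D K := by
        intro g hg
        refine (Subgroup.closure_le _).2 ?_ hg
        rintro _ ⟨j, c, hc0, rfl⟩
        exact hc_mem hp j hc0
      have h6 : Commute x y := hTc x (hT x hx) y (hT y hy)
      rw [h6.mul_pow, h4 (hT x hx), h5 (hT y hy), one_mul]
    | inv x hx h4 =>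
      have hx' : x ∈ TT D K := by
        have := inv_mem ht
        rwa [inv_inv] at this
      rw [inv_pow, h4 hx', inv_one]
  obtain ⟨t, ht⟩ := exists_prime_orderOf_dvd_card' q hqT
  have h3 : q ∣ Nat.card K - 1 := by
    rw [← ht]
    apply orderOf_dvd_of_pow_eq_one
    exact Subtype.ext (hexp t.1 t.2)
  obtain ⟨c, hc⟩ := exists_prime_orderOf_dvd_card' (G := Kˣ) q (by rwa [Nat.card_units])
  refine ⟨hr hp i c, hr_mem hp i c, by rw [← map_pow, ← hc, pow_orderOf_eq_one, map_one], fun h4 => ?_⟩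
  have h5 : v ∈ centralizer ({hr hp i c} : Set ↥(D.group K)) := mem_centralizer_singleton_iff.2 h4.symm
  have h6 := BpExc.TorCent.mem_Sx_of_centralizer C (hr_mem hp i c) hsri hvX hv1 h5
  have h7 : ch hp (sr i) (hr hp i c) = ((c ^ (2 : ℤ) : Kˣ) : K) := by
    rw [hr_eq, ← vec_simple hp i, ch_hc hp i c.ne_zero hsi, Units.val_zpow_eq_zpow_val,
      ← pairing_vec hp i hsi, vec_simple hp i, pairing_sr', hp.isCartan.diag]
  have h8 : c ^ 2 = 1 := by
    have := Units.ext (h7.symm.trans (h6.2.trans Units.val_one.symm))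
    exact_mod_cast this
  have h9 := orderOf_dvd_of_pow_eq_one h8
  rw [hc] at h9
  exact hq2 ((Nat.prime_dvd_prime_iff_eq hq Nat.prime_two).1 h9)

end Cfsg.Agent.H531.TQ
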