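import Cfsg.Agent.H531.TQ.Rows
import Cfsg.Agent.H531.FMOrth
import Cfsg.Agent.S0292
import Cfsg.Agent.S0293
import Cfsg.Agent.S0294

/-!
# The rows of the orthogonal groups
-/

set_option autoImplicit false
set_option linter.unusedSectionVars false
set_option linter.unusedVariables false
set_option linter.unusedSimpArgs false
set_option linter.unnecessarySeqFocus false

namespace Cfsg.Agent.H531.TQ

open Subgroup Module
open QuadraticMap Cfsg Cfsg.Agent.LieClassical.OrthCore Cfsg.Agent.LieClassical.OrthTrans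
open Cfsg.Agent.ClassicalGeometry.OrthSemi Cfsg.Agent.ClassicalGeometry.OrthSemiCount
open Cfsg.Agent.ClassicalGeometry.OrthSemiForms Cfsg.Agent.LieClassical.OrthSimple
  Cfsg.Agent.LieClassical.OrthForms
open Cfsg.Agent.H254 Cfsg.Agent.H254.Orth Cfsg.Agent.H531 Cfsg.Agent.Schreier.Basic Cfsg.Agent.H522.RealOrth
open Cfsg.Agent.ClassicalGeometry.OrthAut1 (P center_scalar)
open Cfsg.Agent.UGT.U2.FOne.Orth (Four)
open Matrix (SpecialLinearGroup)

section gen

variable {F V : Type*} [Field F] [AddCommGroup V] [Module F V] {Q : QuadraticForm F V} {e₁ f₁ e₂ f₂ : V}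

/-- the coordinates -/
def kapQ (Q : QuadraticForm F V) (e₁ f₁ e₂ f₂ : V) : V →ₗ[F] (Fin 2 → Fin 2 → F) where
  toFun v := ![![polar Q f₁ v, polar Q f₂ v], ![polar Q e₂ v, -polar Q e₁ v]]
  map_add' u v := by
    funext i j
    fin_cases i <;> fin_cases j <;> simp [polar_add_right] <;> ring
  map_smul' c v := by
    funext i j
    fin_cases i <;> fin_cases j <;> simp [polar_smul_right]

theorem nt_four (h : Four Q e₁ f₁ e₂ f₂) : Nt h.rho (kapQ Q e₁ f₁ e₂ f₂) where
  surj := by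
    intro u
    obtain ⟨p1, p2, p3, p4, p5, p6, p7, p8, p9, p10, p11, p12, p13, p14, p15, p16⟩ := h.pols
    refine ⟨u 0 0 • e₁ + u 0 1 • e₂ + u 1 0 • f₂ - u 1 1 • f₁, ?_⟩
    have hsub : ∀ w x y : V, polar Q w (x - y) = polar Q w x - polar Q w y := by
      intro w x y
      rw [sub_eq_add_neg, polar_add_right, polar_neg_right, sub_eq_add_neg]
    funext i j
    fin_cases i <;> fin_cases j
    · show polar Q f₁ _ = u 0 0
      simp only [hsub, polar_add_right, polar_smul_right, smul_eq_mul, p1, p2, p3, p4, p5, p6, p7, p8, p9, p10, p11,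
        p12, p13, p14, p15, p16]
      ring
    · show polar Q f₂ _ = u 0 1
      simp only [hsub, polar_add_right, polar_smul_right, smul_eq_mul, p1, p2, p3, p4, p5, p6, p7, p8, p9, p10, p11,
        p12, p13, p14, p15, p16]
      ring
    · show polar Q e₂ _ = u 1 0
      simp only [hsub, polar_add_right, polar_smul_right, smul_eq_mul, p1, p2, p3, p4, p5, p6, p7, p8, p9, p10, p11,
        p12, p13, p14, p15, p16]
      ring
    · show -polar Q e₁ _ = u 1 1
      simp only [hsub, polar_add_right, polar_smul_right, smul_eq_mul, p1, p2, p3, p4, p5, p6, p7, p8, p9, p10, p11,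
        p12, p13, p14, p15, p16]
      ring
  nat := by
    intro g v i
    funext j
    rw [Four.rho_apply]
    fin_cases i <;> fin_cases j
    · show polar Q f₁ (h.phi g v) = (g.1.mulVec ![polar Q f₁ v, polar Q f₂ v]) 0
      rw [h.polar_f1]
      simp [Matrix.mulVec, dotProduct, Fin.sum_univ_two]
    · show polar Q f₂ (h.phi g v) = (g.1.mulVec ![polar Q f₁ v, polar Q f₂ v]) 1
      rw [h.polar_f2]
      simp [Matrix.mulVec, dotProduct, Fin.sum_univ_two]
    · show polar Q e₂ (h.phi g v) = (g.1.mulVec ![polar Q e₂ v, -polar Q e₁ v]) 0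
      rw [h.polar_e2]
      simp [Matrix.mulVec, dotProduct, Fin.sum_univ_two]
      ring
    · show -polar Q e₁ (h.phi g v) = (g.1.mulVec ![polar Q e₂ v, -polar Q e₁ v]) 1
      rw [h.polar_e1]
      simp [Matrix.mulVec, dotProduct, Fin.sum_univ_two]
      ring
  fix := by
    intro g v hv
    have h0 : g.1.mulVec ![polar Q f₁ v, polar Q f₂ v] = ![polar Q f₁ v, polar Q f₂ v] := hv 0
    have h1 : g.1.mulVec ![polar Q e₂ v, -polar Q e₁ v] = ![polar Q e₂ v, -polar Q e₁ v] := hv 1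
    have a0 := congrFun h0 0
    have a1 := congrFun h0 1
    have b0 := congrFun h1 0
    have b1 := congrFun h1 1
    simp only [Matrix.mulVec, dotProduct, Fin.sum_univ_two, Matrix.cons_val_zero, Matrix.cons_val_one,
      Matrix.cons_val_fin_one] at a0 a1 b0 b1
    rw [Four.rho_apply]
    unfold Four.phi
    have c1 : (g.1 0 0 - 1) * polar Q f₁ v + g.1 0 1 * polar Q f₂ v = 0 := by linear_combination a0
    have c2 : g.1 1 0 * polar Q f₁ v + (g.1 1 1 - 1) * polar Q f₂ v = 0 := by linear_combination a1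
    have c3 : (g.1 1 1 - 1) * polar Q e₁ v - g.1 1 0 * polar Q e₂ v = 0 := by linear_combination -b1
    have c4 : -g.1 0 1 * polar Q e₁ v + (g.1 0 0 - 1) * polar Q e₂ v = 0 := by linear_combination b0
    rw [c1, c2, c3, c4]
    simp

end gen

section fam

variable {F : Type*} [Field F] [Fintype F] {ι : Type} [Fintype ι] [DecidableEq ι] {Q : QuadraticForm F (ι → F)}
  {e₁ f₁ e₂ f₂ : ι → F}

/-- **The orthogonal row.** -/
theorem orth (hG : Good Q) (h : Four Q e₁ f₁ e₂ f₂) {σ : F ≃+* F} {M : Equiv.Perm (ι → F)}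
    (hM : Fx Q e₁ f₁ e₂ f₂ σ M) (h2 : 2 ∣ Nat.card (POmega F ⇑Q)) (hco : CopIn (POmega F ⇑Q) (ind hG hM.gam))
    {P f m : ℕ} (hP : P.Prime) (hF : Fintype.card F = P ^ f) (hNd : Fintype.card ι ≤ m + 2) (hmd : 4 < m)
    (hord : ∀ l : ℕ, l.Prime → (∀ j, l ∣ P ^ j - 1 ↔ f * m ∣ j) → ¬ l ∣ P → l ∣ Nat.card (POmega F ⇑Q)) :
    STQ (POmega F ⇑Q) := by
  have hF' : Nat.card F = P ^ f := by rw [Nat.card_eq_fintype_card, hF]
  obtain ⟨u, hu⟩ := IsCyclic.exists_generator (α := Fˣ)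
  have hN0 : 0 < Fintype.card ι := by
    have := hG.dim
    rw [Module.finrank_fintype_fun_eq_card] at this
    omega
  have hfinL : Finite ((ι → F) ≃ₗ[F] (ι → F)) :=
    Finite.of_injective (fun g : (ι → F) ≃ₗ[F] (ι → F) => (g : (ι → F) → (ι → F))) DFunLike.coe_injective
  have hfinS : Finite (POmega F ⇑Q) := Finite.of_equiv _ (pomegaEquiv hG).symm.toEquiv
  refine STQ.of_set (fun β => ∃ k : ℤ, β = ind hG hM.gam ^ k) ?_ ?_
  · intro A hA
    obtain ⟨g, hg⟩ := hco A hA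
    refine ⟨g, fun a ha => ?_⟩
    have h1 : MulAut.conj g a ∈ Subgroup.zpowers (ind hG hM.gam) := hg ⟨a, ha, rfl⟩
    obtain ⟨k, hk⟩ := Subgroup.mem_zpowers_iff.1 h1
    exact ⟨k, by rw [hk, MulAut.conj_apply]⟩
  rintro p q hp hq hpS hqS _ ⟨k, rfl⟩ hpow hne
  rw [ind_zpow hG hM k] at hpow hne ⊢
  have hMk := hM.zpow k
  set τ : F ≃+* F := σ ^ k with hτ
  have hpf : Fact p.Prime := ⟨hp⟩
  have ho : orderOf (ind hG hMk.gam) = p := orderOf_eq_prime hpow hne
  obtain ⟨m', hm'⟩ := MonoidHom.map_cyclic (Units.map (τ : F →* F))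
  have h3 : ind hG hMk.gam (jj hG h (diagSL F u)) = jj hG h (diagSL F u) ^ m' := by
    rw [ind_jj, ← map_zpow, ← map_zpow, map_diagSL, hm']
  have hτ1 : τ ≠ 1 := by
    intro h7
    have h10 : Cfsg.Agent.H208.ConjSS.Lin hMk.gam := ⟨1, by
      have := hMk.ss
      rw [h7] at this
      exact this⟩
    obtain ⟨g, hg⟩ := Cfsg.Agent.H521.OddFixOrth.psi_pow_four_inner hG h10
    have h11 : ind hG hMk.gam ^ 4 = MulAut.conj ((pomegaEquiv hG).symm g) := by
      unfold ind
      rw [← map_pow, hg]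
      ext x
      show (pomegaEquiv hG).symm (MulAut.conj g (pomegaEquiv hG x)) = _
      rw [MulAut.conj_apply, MulAut.conj_apply, map_mul, map_mul, map_inv, MulEquiv.symm_apply_apply]
    have hp2 : p ≠ 2 := by
      rintro rfl
      exact hpS h2
    have h12 : orderOf (ind hG hMk.gam ^ 4) = p := by
      rw [Nat.Coprime.orderOf_pow, ho]
      rw [ho]
      exact (Nat.Prime.coprime_iff_not_dvd hp).2 fun h => hp2
        ((Nat.prime_dvd_prime_iff_eq hp Nat.prime_two).1 (hp.dvd_of_dvd_pow (show p ∣ 2 ^ 2 from h)))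
    rw [h11] at h12
    exact hpS (h12 ▸ (orderOf_map_dvd _ _).trans (orderOf_dvd_natCard _))
  have hdp : p ∣ f := by
    have h4 : orderOf τ ∣ orderOf (ind hG hMk.gam) := orderOf_ind hG hMk.ss
    rw [ho] at h4
    have h5 : orderOf τ = p := by
      rcases (Nat.dvd_prime hp).1 h4 with h | h
      · exact absurd (orderOf_eq_one_iff.1 h) hτ1
      · exact h
    have hPf : Fact P.Prime := ⟨hP⟩
    have hf0 : 0 < f := by
      rcases Nat.eq_zero_or_pos f with h | h
      · rw [h, pow_zero] at hF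
        have := Fintype.one_lt_card (α := F)
        omega
      · exact h
    have hch : CharP F P := by
      obtain ⟨p', hp'⟩ := CharP.exists F
      obtain ⟨n, hp'', hn⟩ := FiniteField.card F p'
      have : p' = P := by
        have h2 : p' ∣ P ^ f := by rw [← hF, hn]; exact dvd_pow_self _ n.pos.ne'
        exact (Nat.prime_dvd_prime_iff_eq hp'' hP).1 (hp''.dvd_of_dvd_pow h2)
      rwa [← this]
    rw [← h5, ← Lib.FieldAutCard.card_ringAut hf0 hF]
    exact orderOf_dvd_natCard τ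
  have hmov : ind hG hMk.gam (jj hG h (diagSL F u)) ≠ jj hG h (diagSL F u) := by
    intro h4
    rw [ind_jj, map_diagSL] at h4
    have h5 := jj_injective hG h h4
    have h6 : τ (u : F) = u := congrFun (congrFun (congrArg Subtype.val h5) 0) 0
    apply hτ1
    ext x
    rcases eq_or_ne x 0 with hx | hx
    · rw [hx, map_zero, map_zero]
    · obtain ⟨j, hj⟩ := Subgroup.mem_zpowers_iff.1 (hu (Units.mk0 x hx))
      have h8 : Units.map (τ : F →* F) u = u := Units.ext h6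
      have h9 : Units.map (τ : F →* F) (Units.mk0 x hx) = Units.mk0 x hx := by
        rw [← hj, map_zpow, h8]
      exact congrArg Units.val h9
  have hu2 : (u : F) ^ 2 ≠ 1 := by
    intro h4
    apply hmov
    rw [ind_jj, map_diagSL]
    congr 2
    apply Units.ext
    show τ (u : F) = u
    rcases (sq_eq_one_iff.1 h4) with h | h
    · rw [h, map_one]
    · rw [h, map_neg, map_one]
  let Ma : (ι → F) ≃+ (ι → F) := { M ^ k with map_add' := hMk.ss.add }
  have R : Rp (E Q).subtype ((pomegaEquiv hG).symm.toMonoidHom.comp (QuotientGroup.mk' (Subgroup.center ↥(E Q)))) :=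
    { inj := Subtype.val_injective
      surj := (pomegaEquiv hG).symm.surjective.comp (QuotientGroup.mk'_surjective _)
      ker := fun z hz => by
        have h1 : (QuotientGroup.mk z : ↥(E Q) ⧸ Subgroup.center ↥(E Q)) = 1 :=
          (map_eq_one_iff (pomegaEquiv hG).symm (pomegaEquiv hG).symm.injective).1 hz
        exact center_scalar hG ((QuotientGroup.eq_one_iff _).1 h1) }
  refine row_core (d := 2) (m := m) (κ := kapQ Q e₁ f₁ e₂ f₂) (g₂ := diagSL F u) (x₂ := h.rhoE (diagSL F u)) hP hF'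
    (V := ι → F) (by rw [Module.finrank_fintype_fun_eq_card]) R (nt_four h) two_pos hNd hmd hN0 hord h2
    (ind hG hMk.gam) hp hq hpS hqS hpow hdp hτ1 Ma hMk.ss.smul ?_ hu2 ?_ rfl ?_ hmov ?_
  · intro g
    refine ⟨conjE Q hMk.gam g, ?_, ?_⟩
    · show (pomegaEquiv hG).symm (QuotientGroup.mk (conjE Q hMk.gam g)) =
        (pomegaEquiv hG).symm (Psi Q hMk.gam (pomegaEquiv hG ((pomegaEquiv hG).symm (QuotientGroup.mk g))))
      rw [MulEquiv.apply_symm_apply, Psi_mk]
    · intro v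
      show (conjE Q hMk.gam g : (ι → F) ≃ₗ[F] (ι → F)) ((M ^ k) v) = (M ^ k) ((g : (ι → F) ≃ₗ[F] (ι → F)) v)
      rw [coe_conjE]
      exact conjLin_apply' hMk.gam g.1 v
  · show !![((u : F)), 0; 0, (((u⁻¹ : Fˣ)) : F)] = _
    rw [Units.val_inv_eq_inv_val]
  · show ind hG hMk.gam (jj hG h (diagSL F u)) ∈ zpowers (jj hG h (diagSL F u))
    rw [h3]
    exact Subgroup.zpow_mem _ (Subgroup.mem_zpowers _) _
  · rcases case_sl hP hF' hq with ⟨g, h1, h3⟩ | ⟨h1, h3⟩
    · exact Or.inl ⟨h.rhoE g, g, h1, h3, rfl⟩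
    · exact Or.inr ⟨h1, h3⟩

end fam

/-- The criterion with all the numerical data. -/
theorem orth_of {F : Type*} [Field F] [Fintype F] {ι : Type} [Fintype ι] [DecidableEq ι]
    {Q : QuadraticForm F (ι → F)} {e₁ f₁ e₂ f₂ : ι → F} {q : (ι → F) → F} (hq : ⇑Q = q) [Finite (POmega F q)]
    [IsSimpleGroup (POmega F q)] (hna : ¬ IsMulCommutative (POmega F q)) (h2 : 2 ∣ Nat.card (POmega F q))
    (hs : Sch (POmega F q)) (hG : Good Q) (h : Four Q e₁ f₁ e₂ f₂) {σ : F ≃+* F} {M : Equiv.Perm (ι → F)}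
    (hM : Fx Q e₁ f₁ e₂ f₂ σ M) (c f : ℕ) (hc0 : c ≠ 0) (hc : ∀ r : ℕ, r.Prime → r ∣ c → r ∣ Nat.card (POmega F q))
    (hf : f ∣ orderOf σ) (hcard : Nat.card (MulAut (POmega F q)) ∣ c * f * Nat.card (POmega F q))
    {P m : ℕ} (hP : P.Prime) (hF : Fintype.card F = P ^ f) (hNd : Fintype.card ι ≤ m + 2) (hmd : 4 < m)
    (hord : ∀ l : ℕ, l.Prime → (∀ j, l ∣ P ^ j - 1 ↔ f * m ∣ j) → ¬ l ∣ P → l ∣ Nat.card (POmega F q)) :
    STQ (POmega F q) := by
  subst hq
  exact orth hG h hM h2 (CopIn.of_card hna hs _ c hc0 hc (hcard.trans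
    (Nat.mul_dvd_mul_right (Nat.mul_dvd_mul_left _ (hf.trans (orderOf_ind hG hM.ss))) _))) hP hF hNd hmd hord

theorem not_dvd_two {P f m l : ℕ} (hP : P.Prime) (hf : 0 < f) (hm : 2 ≤ m) (hl : l.Prime)
    (hlj : ∀ j, l ∣ P ^ j - 1 ↔ f * m ∣ j) (hlP : ¬ l ∣ P) : ¬ l ∣ 2 := by
  intro h4
  have h5 : l = 2 := (Nat.prime_dvd_prime_iff_eq hl Nat.prime_two).1 h4
  subst h5
  have h6 : ¬ f * m ∣ 1 := by
    intro h7
    have := Nat.le_of_dvd one_pos h7
    have : 1 * 2 ≤ f * m := Nat.mul_le_mul hf hm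
    omega
  apply h6
  rw [← hlj, pow_one]
  rcases hP.eq_two_or_odd' with h | ⟨k, h⟩
  · exact absurd (by rw [h]) hlP
  · exact ⟨k, by omega⟩

variable {F : Type*} [Field F] [Fintype F] {m : ℕ}

theorem odd (hm : 3 ≤ m) (hodd : Odd (Fintype.card F)) [Finite (Cfsg.POmega F (Cfsg.quadFormOdd m F))]
    [IsSimpleGroup (Cfsg.POmega F (Cfsg.quadFormOdd m F))]
    (hna : ¬ IsMulCommutative (Cfsg.POmega F (Cfsg.quadFormOdd m F)))
    (h2 : 2 ∣ Nat.card (Cfsg.POmega F (Cfsg.quadFormOdd m F))) :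
    STQ (Cfsg.POmega F (Cfsg.quadFormOdd m F)) := by
  obtain ⟨p, hchar⟩ := CharP.exists F
  obtain ⟨f, hp, hf⟩ := FiniteField.card F p
  have hpf : Fact p.Prime := ⟨hp⟩
  have hpodd : Odd p := by
    rw [hf] at hodd
    exact (Nat.odd_pow_iff f.pos.ne').1 hodd
  have h20 : (2 : F) ≠ 0 := Cfsg.Agent.LieClassical.PomegaCard.odd_card_iff.1 hodd
  have hcard := S0816.result p f f.pos hf hpodd m hm
  have hf' : Nat.card (F ≃+* F) = f := Lib.FieldAutCard.card_ringAut f.pos hf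
  obtain ⟨ρ, hρ, -⟩ := exists_ringAut F
  obtain ⟨M, e₁, f₁, e₂, f₂, h4, hM⟩ := odd_fx h20 (m := m) (by omega) ρ
  refine orth_of (m := 2 * m) (coe_oddForm m F) hna h2 (Schreier.ClassPOmega.sch_odd hm h20)
    (good_odd (F := F) (m := m) (by omega) h20) h4 hM 2 f two_ne_zero ?_ (by rw [hρ, hf']) ?_ hp hf ?_ (by omega) ?_
  · intro r hr hd
    rw [(Nat.prime_dvd_prime_iff_eq hr Nat.prime_two).1 hd]; exact h2
  · rw [hcard]
  · simp only [Fintype.card_sum, Fintype.card_fin, Fintype.card_unit]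
    omega
  · intro l hl hlj hlP
    have h := Cfsg.Agent.S0292.result (F := F) hf (hf ▸ hodd) m hm
    have h1 : l ∣ 2 * Nat.card (Cfsg.POmega F (Cfsg.quadFormOdd m F)) := by
      rw [h]
      refine Dvd.dvd.mul_left ?_ _
      refine Dvd.dvd.trans ?_ (Finset.dvd_prod_of_mem _ (Finset.mem_range.2 (show m - 1 < m by omega)))
      rw [← pow_mul]
      refine (hlj _).2 ?_
      have : 2 * (m - 1 + 1) = 2 * m := by omega
      rw [this]
    rcases (Nat.Prime.dvd_mul hl).1 h1 with h5 | h5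
    · exact absurd h5 (not_dvd_two hp f.pos (by omega) hl hlj hlP)
    · exact h5

theorem plus (hm : 4 ≤ m) [Finite (Cfsg.POmega F (Cfsg.quadFormPlus m F))]
    [IsSimpleGroup (Cfsg.POmega F (Cfsg.quadFormPlus m F))]
    (hna : ¬ IsMulCommutative (Cfsg.POmega F (Cfsg.quadFormPlus m F)))
    (h2 : 2 ∣ Nat.card (Cfsg.POmega F (Cfsg.quadFormPlus m F))) :
    STQ (Cfsg.POmega F (Cfsg.quadFormPlus m F)) := by
  obtain ⟨p, hchar⟩ := CharP.exists F
  obtain ⟨f, hp, hf⟩ := FiniteField.card F p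
  have hpf : Fact p.Prime := ⟨hp⟩
  have hcard := S0817.result p f f.pos hf m hm
  have hf' : Nat.card (F ≃+* F) = f := Lib.FieldAutCard.card_ringAut f.pos hf
  obtain ⟨ρ, hρ, -⟩ := exists_ringAut F
  obtain ⟨M, e₁, f₁, e₂, f₂, h4, hM⟩ := plus_fx (F := F) (m := m) (by omega) ρ
  refine orth_of (m := 2 * m - 2) (coe_plusForm m F) hna h2 (Schreier.ClassPOmega.sch_plus hm)
    (good_plus (F := F) (m := m) (by omega)) h4 hM (3 * 8) f (by norm_num) ?_ (by rw [hρ, hf']) ?_ hp hf ?_ (by omega) ?_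
  · intro r hr hd
    rcases (hr.dvd_mul).1 hd with h | h
    · rw [(Nat.prime_dvd_prime_iff_eq hr Nat.prime_three).1 h]; exact three_dvd_plus hm
    · have h4 : r ∣ 2 ^ 3 := h
      rw [(Nat.prime_dvd_prime_iff_eq hr Nat.prime_two).1 (hr.dvd_of_dvd_pow h4)]; exact h2
  · rw [hcard]
    have h6 : (if m = 4 then 3 else 1) ∣ 3 := by
      split_ifs
      · exact dvd_rfl
      · exact one_dvd _
    have h7 : (if p = 2 then 2 else (if Even (m * (p ^ (f : ℕ) - 1) / 2) then 8 else 4)) ∣ 8 := by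
      split_ifs
      · exact ⟨4, by norm_num⟩
      · exact dvd_rfl
      · exact ⟨2, by norm_num⟩
    exact Nat.mul_dvd_mul_right (Nat.mul_dvd_mul (Nat.mul_dvd_mul h6 h7) dvd_rfl) _
  · simp only [Fintype.card_sum, Fintype.card_fin]
    omega
  · intro l hl hlj hlP
    have h := Cfsg.Agent.S0293.result (F := F) hf m hm
    have h1 : l ∣ Nat.gcd 4 ((p ^ (f : ℕ)) ^ m - 1) * Nat.card (Cfsg.POmega F (Cfsg.quadFormPlus m F)) := by
      rw [h]
      refine Dvd.dvd.mul_left ?_ _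
      refine Dvd.dvd.trans ?_ (Finset.dvd_prod_of_mem _ (Finset.mem_range.2 (show m - 2 < m - 1 by omega)))
      rw [← pow_mul]
      refine (hlj _).2 ?_
      have : 2 * (m - 2 + 1) = 2 * m - 2 := by omega
      rw [this]
    rcases (Nat.Prime.dvd_mul hl).1 h1 with h5 | h5
    · exact absurd (hl.dvd_of_dvd_pow (show l ∣ 2 ^ 2 from h5.trans (Nat.gcd_dvd_left _ _)))
        (not_dvd_two hp f.pos (by omega) hl hlj hlP)
    · exact h5

theorem minus (hm : 4 ≤ m) (a b : F)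
    (hab : ∀ z₁ z₂ : F, z₁ ^ 2 + a * z₁ * z₂ + b * z₂ ^ 2 = 0 → z₁ = 0 ∧ z₂ = 0)
    [Finite (Cfsg.POmega F (Cfsg.quadFormMinus (m - 1) F a b))]
    [IsSimpleGroup (Cfsg.POmega F (Cfsg.quadFormMinus (m - 1) F a b))]
    (hna : ¬ IsMulCommutative (Cfsg.POmega F (Cfsg.quadFormMinus (m - 1) F a b)))
    (h2 : 2 ∣ Nat.card (Cfsg.POmega F (Cfsg.quadFormMinus (m - 1) F a b))) :
    STQ (Cfsg.POmega F (Cfsg.quadFormMinus (m - 1) F a b)) := by
  obtain ⟨p, hchar⟩ := CharP.exists F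
  obtain ⟨f, hp, hf⟩ := FiniteField.card F p
  have hpf : Fact p.Prime := ⟨hp⟩
  have hcard := S0818.result p f f.pos hf m hm a b hab
  have hf' : Nat.card (F ≃+* F) = f := Lib.FieldAutCard.card_ringAut f.pos hf
  obtain ⟨ρ, hρ, -⟩ := exists_ringAut F
  obtain ⟨M, e₁, f₁, e₂, f₂, h4, hM⟩ := minus_fx (F := F) (m := m - 1) (by omega) a b hab ρ
  refine orth_of (m := 2 * m) (coe_minusForm (m - 1) F a b) hna h2 (Schreier.ClassPOmega.sch_minus hm a b hab)
    (good_minus (F := F) (m := m - 1) (by omega) a b hab) h4 hM 8 f (by norm_num) ?_ (by rw [hρ, hf']) ?_ hp hf ?_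
    (by omega) ?_
  · intro r hr hd
    have h4 : r ∣ 2 ^ 3 := hd
    rw [(Nat.prime_dvd_prime_iff_eq hr Nat.prime_two).1 (hr.dvd_of_dvd_pow h4)]; exact h2
  · rw [hcard]
    have h7 : (if p = 2 then 2 else (if Even (m * (p ^ (f : ℕ) - 1) / 2) then 4 else 8)) ∣ 8 := by
      split_ifs
      · exact ⟨4, by norm_num⟩
      · exact ⟨2, by norm_num⟩
      · exact dvd_rfl
    exact Nat.mul_dvd_mul_right (Nat.mul_dvd_mul h7 dvd_rfl) _
  · simp only [Fintype.card_sum, Fintype.card_fin]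
    omega
  · intro l hl hlj hlP
    have h := Cfsg.Agent.S0294.result (F := F) hf m hm a b hab
    have h5 : l ∣ (p ^ (f : ℕ)) ^ m + 1 := by
      have h6 : l ∣ ((p ^ (f : ℕ)) ^ m + 1) * ((p ^ (f : ℕ)) ^ m - 1) := by
        have := Nat.sq_sub_sq ((p ^ (f : ℕ)) ^ m) 1
        rw [one_pow] at this
        rw [← this, ← pow_mul, ← pow_mul]
        refine (hlj _).2 ⟨1, ?_⟩
        ring
      rcases (Nat.Prime.dvd_mul hl).1 h6 with h7 | h7
      · exact h7
      · exfalso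
        rw [← pow_mul, hlj] at h7
        have h8 : 0 < (f : ℕ) * m := Nat.mul_pos f.pos (by omega)
        have h9 := Nat.le_of_dvd h8 h7
        have : (f : ℕ) * (2 * m) = 2 * ((f : ℕ) * m) := by ring
        omega
    have h1 : l ∣ Nat.gcd 4 ((p ^ (f : ℕ)) ^ m + 1) *
        Nat.card (Cfsg.POmega F (Cfsg.quadFormMinus (m - 1) F a b)) := by
      rw [h]
      exact (h5.mul_left _).mul_right _
    rcases (Nat.Prime.dvd_mul hl).1 h1 with h5 | h5
    · exact absurd (hl.dvd_of_dvd_pow (show l ∣ 2 ^ 2 from h5.trans (Nat.gcd_dvd_left _ _)))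
        (not_dvd_two hp f.pos (by omega) hl hlj hlP)
    · exact h5

end Cfsg.Agent.H531.TQ
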