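import Cfsg.Agent.H531.TQ.Mat
import Cfsg.Agent.S0243

/-!
# The rows `PSL_n(F)`, `n ≥ 3`
-/

set_option autoImplicit false

namespace Cfsg.Agent.H531.TQ

open Subgroup Module
open Matrix (SpecialLinearGroup)
open scoped Matrix
open Cfsg.Agent.KFacts.MulOdd.TypeA Cfsg.Agent.H531
open Cfsg.Agent.ClassicalGeometry.AutPSL.Auto Cfsg.Agent.ClassicalGeometry.AutPSL.Main
open Cfsg.Agent.ClassicalGeometry.AutPSL.Root

universe u v w

theorem psl {F : Type v} [Field F] {n : ℕ} [Fintype F] (hn : 3 ≤ n)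
    [Finite (Matrix.ProjectiveSpecialLinearGroup (Fin n) F)]
    [IsSimpleGroup (Matrix.ProjectiveSpecialLinearGroup (Fin n) F)]
    (hna : ¬ IsMulCommutative (Matrix.ProjectiveSpecialLinearGroup (Fin n) F))
    (h2 : 2 ∣ Nat.card (Matrix.ProjectiveSpecialLinearGroup (Fin n) F)) :
    STQ (Matrix.ProjectiveSpecialLinearGroup (Fin n) F) := by
  obtain ⟨ρ, hρ, -⟩ := H254.exists_ringAut F
  have hco := H254.PSL.copIn (by omega) (by omega) hna h2 ρ hρ
  have hab : (⟨0, by omega⟩ : Fin n) ≠ ⟨1, by omega⟩ := by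
    intro h
    have := congrArg Fin.val h
    simp at this
  obtain ⟨P, f, hP, hf, hF⟩ : ∃ P f : ℕ, P.Prime ∧ 0 < f ∧ Fintype.card F = P ^ f := by
    obtain ⟨P, hch⟩ := CharP.exists F
    obtain ⟨f, hP, hF⟩ := FiniteField.card F P
    exact ⟨P, f, hP, f.pos, hF⟩
  have hF' : Nat.card F = P ^ f := by rw [Nat.card_eq_fintype_card, hF]
  refine row_mat (G := SpecialLinearGroup (Fin n) F) (m := n)
    ({ toFun := fun g => g.1, map_one' := rfl, map_mul' := fun _ _ => rfl } :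
      SpecialLinearGroup (Fin n) F →* Matrix (Fin n) (Fin n) F) Subtype.val_injective
    (QuotientGroup.mk' _) (QuotientGroup.mk'_surjective _) ?_ hab hP hF
    (by rw [Fintype.card_fin]; omega) (by omega) (by rw [Fintype.card_fin]) ?_ h2
    ((lift).comp fld) (FieldConjS.of_copIn (ρ := ρ) _ hco) ?_ ⊤ ((blk hab).comp ((diagSL F).comp (Subgroup.subtype _)))
    (fun u => rfl) ?_ ?_
  · intro z hz
    have h1 : z ∈ Subgroup.center (Matrix.SpecialLinearGroup (Fin n) F) := (QuotientGroup.eq_one_iff _).1 hz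
    rw [Matrix.SpecialLinearGroup.mem_center_iff] at h1
    obtain ⟨r, -, hr⟩ := h1
    exact ⟨r, hr.symm⟩
  · intro l hl hlj hlP
    have h := Cfsg.Agent.S0243.result (F := F) hF n (by omega)
    have h1 : l ∣ ∏ i : Fin n, ((P ^ f) ^ n - (P ^ f) ^ (i : ℕ)) := by
      refine Dvd.dvd.trans ?_ (Finset.dvd_prod_of_mem _ (Finset.mem_univ (⟨0, by omega⟩ : Fin n)))
      rw [pow_zero, ← pow_mul]
      exact (hlj _).2 dvd_rfl
    rw [← h] at h1
    have h3 : ¬ l ∣ P ^ f - 1 := by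
      intro h4
      have h5 := (hlj f).1 h4
      have h6 := Nat.le_of_dvd hf h5
      have : f * 3 ≤ f * n := Nat.mul_le_mul_left f hn
      omega
    rcases (Nat.Prime.dvd_mul hl).1 h1 with h4 | h4
    · exact absurd (h4.trans (Nat.gcd_dvd_right _ _)) h3
    · rcases (Nat.Prime.dvd_mul hl).1 h4 with h5 | h5
      · exact absurd h5 h3
      · exact h5
  · intro τ g
    refine ⟨Matrix.SpecialLinearGroup.map (τ : F →+* F) g, ?_, rfl⟩
    show pr _ = lift (fld τ) (pr g)
    rw [lift_pr]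
    rfl
  · intro τ hτ
    have : τ = 1 := by
      apply RingEquiv.ext
      intro x
      rcases eq_or_ne x 0 with rfl | hx
      · rw [map_zero, map_zero]
      · exact hτ (Units.mk0 x hx) (Subgroup.mem_top _)
    rw [this, map_one]
  · intro q hq hqS
    rcases case_sl hP hF' hq with ⟨g, h1, h3⟩ | ⟨h1, h3⟩
    · exact Or.inl ⟨blk hab g, g, h1, h3, rfl⟩
    · exact Or.inr ⟨h1, fun j hj hj2 => h3 j hj (by omega)⟩

end Cfsg.Agent.H531.TQ
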