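import Cfsg.Agent.H531.TQ.Mat
import Cfsg.Agent.ClassicalGeometry.SympAutCentral
import Cfsg.Agent.S0245

/-!
# The rows `PSp_2m(F)`, `m ≥ 2`
-/

set_option autoImplicit false

namespace Cfsg.Agent.H531.TQ

open Subgroup Module
open Matrix (SpecialLinearGroup)
open scoped Matrix
open Cfsg Cfsg.Agent.KFacts.MulOdd.TypeA Cfsg.Agent.H531
open Cfsg.Agent.ClassicalGeometry.SympBasic Cfsg.Agent.ClassicalGeometry.SympAutSemi
  Cfsg.Agent.ClassicalGeometry.SympGamma Cfsg.Agent.H531.RMPsp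

universe u v w

theorem psp {F : Type v} [Field F] {m : ℕ} [Fintype F] (hm : 2 ≤ m) (h3 : m = 2 → 3 ≤ Fintype.card F)
    [Finite (PSp m F)] [IsSimpleGroup (PSp m F)] (hna : ¬ IsMulCommutative (PSp m F))
    (h2 : 2 ∣ Nat.card (PSp m F)) : STQ (PSp m F) := by
  obtain ⟨ρ, hρ, -⟩ := H254.exists_ringAut F
  have hco := H254.PSP.copIn hm h3 hna h2 ρ hρ
  let i₀ : Fin m := ⟨0, by omega⟩
  have hab : (Sum.inl i₀ : Fin m ⊕ Fin m) ≠ Sum.inr i₀ := Sum.inl_ne_inr
  obtain ⟨P, f, hP, hf, hF⟩ : ∃ P f : ℕ, P.Prime ∧ 0 < f ∧ Fintype.card F = P ^ f := by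
    obtain ⟨P, hch⟩ := CharP.exists F
    obtain ⟨f, hP, hF⟩ := FiniteField.card F P
    exact ⟨P, f, hP, f.pos, hF⟩
  have hF' : Nat.card F = P ^ f := by rw [Nat.card_eq_fintype_card, hF]
  have hcι : Fintype.card (Fin m ⊕ Fin m) = 2 * m := by
    rw [Fintype.card_sum, Fintype.card_fin]; ring
  have hker : ∀ z : Matrix.symplecticGroup (Fin m) F, (QuotientGroup.mk' (Subgroup.center _) z : PSp m F) = 1 →
      ∃ c : F, c * c = 1 ∧ (z : Matrix (Fin m ⊕ Fin m) (Fin m ⊕ Fin m) F) = Matrix.scalar _ c := by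
    intro z hz
    have h1 : z ∈ Subgroup.center (Matrix.symplecticGroup (Fin m) F) := (QuotientGroup.eq_one_iff _).1 hz
    obtain ⟨b, hb, h⟩ := Cfsg.Agent.ClassicalGeometry.SympAutCentral.center_scalar h1
    refine ⟨b, hb, ?_⟩
    apply Matrix.toLin'.injective
    apply LinearMap.ext
    intro v
    rw [Matrix.toLin'_apply, Matrix.toLin'_apply]
    have h3 : (z : Matrix (Fin m ⊕ Fin m) (Fin m ⊕ Fin m) F) *ᵥ v = b • v := h v
    rw [h3]
    funext j
    simp [Matrix.mulVec, dotProduct, Matrix.scalar, Matrix.diagonal]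
  refine row_mat (G := Matrix.symplecticGroup (Fin m) F) (m := 2 * m)
    ({ toFun := fun g => g.1, map_one' := rfl, map_mul' := fun _ _ => rfl } :
      Matrix.symplecticGroup (Fin m) F →* Matrix (Fin m ⊕ Fin m) (Fin m ⊕ Fin m) F) Subtype.val_injective
    (QuotientGroup.mk' _) (QuotientGroup.mk'_surjective _) ?_ hab hP hF
    (by omega) (by omega) (by omega) ?_ h2
    (H254.PSP.fld m) (FieldConjS.of_copIn (ρ := ρ) _ hco) ?_ ⊤ ((emb i₀).comp ((diagSL F).comp (Subgroup.subtype _)))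
    (fun u => rfl) ?_ ?_
  · intro z hz
    obtain ⟨c, -, hc⟩ := hker z hz
    exact ⟨c, hc⟩
  · intro l hl hlj hlP
    have h := Cfsg.Agent.S0245.result (F := F) hF m
    have h1 : l ∣ Nat.card (Matrix.symplecticGroup (Fin m) F) := by
      rw [h]
      refine Dvd.dvd.mul_left ?_ _
      refine Dvd.dvd.trans ?_ (Finset.dvd_prod_of_mem _ (Finset.mem_range.2 (show m - 1 < m by omega)))
      rw [← pow_mul]
      refine (hlj _).2 ?_
      have : 2 * (m - 1 + 1) = 2 * m := by omega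
      rw [this]
    have h3 : ¬ l ∣ 2 := by
      intro h4
      have h5 : l = 2 := (Nat.prime_dvd_prime_iff_eq hl Nat.prime_two).1 h4
      subst h5
      have h6 : ¬ f * (2 * m) ∣ 1 := by
        intro h7
        have := Nat.le_of_dvd one_pos h7
        have : 1 * 2 ≤ f * (2 * m) := Nat.mul_le_mul hf (by omega)
        omega
      apply h6
      rw [← hlj, pow_one]
      rcases hP.eq_two_or_odd' with h | ⟨k, h⟩
      · exact absurd (by rw [h]) hlP
      · exact ⟨k, by omega⟩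
    have h4 : Nat.card (Matrix.symplecticGroup (Fin m) F) =
        Nat.card (PSp m F) * Nat.card (Subgroup.center (Matrix.symplecticGroup (Fin m) F)) :=
      Subgroup.card_eq_card_quotient_mul_card_subgroup _
    rw [h4] at h1
    rcases (Nat.Prime.dvd_mul hl).1 h1 with h5 | h5
    · exact h5
    · exfalso
      have : Fact l.Prime := ⟨hl⟩
      obtain ⟨z, hz⟩ := exists_prime_orderOf_dvd_card' l h5
      obtain ⟨c, hc, hc'⟩ := hker z.1 ((QuotientGroup.eq_one_iff _).2 z.2)
      have h6 : z ^ 2 = 1 := by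
        apply Subtype.ext
        apply Subtype.ext
        show ((z : Matrix.symplecticGroup (Fin m) F) ^ 2 : Matrix.symplecticGroup (Fin m) F).1 = 1
        rw [sq]
        show (z : Matrix.symplecticGroup (Fin m) F).1 * (z : Matrix.symplecticGroup (Fin m) F).1 = 1
        rw [hc', ← map_mul, hc, map_one]
      rw [← orderOf_dvd_iff_pow_eq_one, hz] at h6
      exact h3 h6
  · intro τ g
    refine ⟨conjHom m F (H254.PSP.frobSS m τ) g, ?_, ?_⟩
    · show QuotientGroup.mk _ = Psi m F (H254.PSP.frobSS m τ) (QuotientGroup.mk g)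
      rw [Psi_mk]
    · apply Matrix.toLin'.injective
      apply LinearMap.ext
      intro v
      rw [Matrix.toLin'_apply, Matrix.toLin'_apply]
      obtain ⟨w, rfl⟩ := (frobE (Fin m ⊕ Fin m) τ).surjective v
      have h4 := map_mulVec_frobE τ (g : Matrix (Fin m ⊕ Fin m) (Fin m ⊕ Fin m) F) w
      refine Eq.trans ?_ h4.symm
      have h5 := rho_conjHom (H254.PSP.frobSS m τ) g
      rw [eq_mul_inv_iff_mul_eq] at h5
      exact Equiv.congr_fun h5 w
  · intro τ hτ
    have : τ = 1 := by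
      apply RingEquiv.ext
      intro x
      rcases eq_or_ne x 0 with rfl | hx
      · rw [map_zero, map_zero]
      · exact hτ (Units.mk0 x hx) (Subgroup.mem_top _)
    rw [this, map_one]
  · intro q hq hqS
    rcases case_sl hP hF' hq with ⟨g, h1, h3⟩ | ⟨h1, h3⟩
    · exact Or.inl ⟨emb i₀ g, g, h1, h3, rfl⟩
    · exact Or.inr ⟨h1, fun j hj hj2 => h3 j hj (by omega)⟩

end Cfsg.Agent.H531.TQ
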