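import Cfsg.Agent.H531.TQ.Strong
import Cfsg.Agent.H531.FMRows
import Cfsg.Agent.Lib.Zsigmondy
import Cfsg.Agent.Lib.FieldAutCard
import Cfsg.Agent.S0276

/-!
# Classical groups: the rows (common part)
-/

set_option autoImplicit false
set_option linter.unusedSectionVars false
set_option linter.unusedVariables false
set_option linter.deprecated false

namespace Cfsg.Agent.H531.TQ

open Subgroup Module
open Matrix (SpecialLinearGroup)
open scoped Matrix

universe u v

/-- For every coprime automorphism `α` of prime order and every prime divisor `q` of `|K|` there is an element `x` with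
`⟨x⟩` `α`-invariant, `α x ≠ x`, whose class size is divisible by `q`. -/
def STQ (K : Type*) [Group K] : Prop :=
  ∀ p q : ℕ, p.Prime → q.Prime → ¬ p ∣ Nat.card K → q ∣ Nat.card K → ∀ α : MulAut K, α ^ p = 1 → α ≠ 1 →
    ∃ x : K, α x ∈ zpowers x ∧ α x ≠ x ∧ q ∣ (centralizer ({x} : Set K)).index

theorem index_centralizer_congr {K L : Type*} [Group K] [Group L] (e : K ≃* L) (x : K) :
    (centralizer ({e x} : Set L)).index = (centralizer ({x} : Set K)).index := by
  have h1 : (centralizer ({e x} : Set L)).comap e.toMonoidHom = centralizer ({x} : Set K) := by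
    ext y
    rw [mem_comap, mem_centralizer_singleton_iff, mem_centralizer_singleton_iff]
    show e y * e x = e x * e y ↔ _
    rw [← map_mul, ← map_mul, e.injective.eq_iff]
  rw [← h1, index_comap_of_surjective _ e.surjective]

theorem STQ.of_equiv {K : Type u} [Group K] {L : Type v} [Group L] (e : K ≃* L) (h : STQ K) : STQ L := by
  intro p q hp hq hpL hqL α hα hne
  have hcard : Nat.card K = Nat.card L := Nat.card_congr e.toEquiv
  let E : MulAut L ≃* MulAut K := (MulAut.congr e).symm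
  obtain ⟨x, h1, h2, h3⟩ := h p q hp hq (by rwa [hcard]) (by rwa [hcard]) (E α) (by rw [← map_pow, hα, map_one])
    (fun h => hne ((map_eq_one_iff E E.injective).1 h))
  have key : E α x = e.symm (α (e x)) := rfl
  refine ⟨e x, ?_, ?_, ?_⟩
  · rw [key] at h1
    obtain ⟨k, hk⟩ := mem_zpowers_iff.1 h1
    refine mem_zpowers_iff.2 ⟨k, ?_⟩
    rw [← map_zpow, hk, MulEquiv.apply_symm_apply]
  · intro h4
    apply h2
    rw [key, h4, MulEquiv.symm_apply_apply]
  · rw [index_centralizer_congr]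
    exact h3

theorem STQ.of_copTriv {K : Type u} [Group K] (h : Cfsg.Agent.H254.CopTriv K) : STQ K := by
  intro p q hp hq hpK hqK α hα hne
  exfalso
  apply hne
  have ho : orderOf α = p := by
    have : Fact p.Prime := ⟨hp⟩
    exact orderOf_eq_prime hα hne
  have h1 := h (zpowers α) (by
    rw [Nat.card_zpowers, ho]
    exact (Nat.Prime.coprime_iff_not_dvd hp).2 hpK)
  have h2 : α ∈ zpowers α := mem_zpowers α
  rw [h1] at h2
  exact mem_bot.1 h2

theorem STQ.of_set {K : Type u} [Group K] (T : MulAut K → Prop)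
    (h : ∀ A : Subgroup (MulAut K), (Nat.card A).Coprime (Nat.card K) → ∃ g : MulAut K, ∀ a ∈ A, T (g * a * g⁻¹))
    (h2 : ∀ p q : ℕ, p.Prime → q.Prime → ¬ p ∣ Nat.card K → q ∣ Nat.card K → ∀ β, T β → β ^ p = 1 → β ≠ 1 →
      ∃ x : K, β x ∈ zpowers x ∧ β x ≠ x ∧ q ∣ (centralizer ({x} : Set K)).index) : STQ K := by
  intro p q hp hq hpK hqK α hα hne
  have ho : orderOf α = p := by
    have : Fact p.Prime := ⟨hp⟩
    exact orderOf_eq_prime hα hne
  obtain ⟨g, hg⟩ := h (zpowers α) (by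
    rw [Nat.card_zpowers, ho]
    exact (Nat.Prime.coprime_iff_not_dvd hp).2 hpK)
  obtain ⟨x, h3, h4, h5⟩ := h2 p q hp hq hpK hqK (g * α * g⁻¹) (hg α (mem_zpowers α))
    (by rw [conj_pow, hα, mul_one, mul_inv_cancel]) (by
      intro h3
      apply hne
      have : α = g⁻¹ * (g * α * g⁻¹) * g := by group
      rw [this, h3]; group)
  have key : α (g⁻¹ x) = g⁻¹ ((g * α * g⁻¹) x) := by
    show α (g⁻¹ x) = g⁻¹ (g (α (g⁻¹ x)))
    rw [MulAut.inv_apply_self]
  refine ⟨g⁻¹ x, ?_, ?_, ?_⟩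
  · rw [key]
    obtain ⟨j, hj⟩ := mem_zpowers_iff.1 h3
    refine mem_zpowers_iff.2 ⟨j, ?_⟩
    rw [← map_zpow, hj]
  · rw [key]
    intro h6
    exact h4 (g⁻¹.injective h6)
  · rw [index_centralizer_congr g⁻¹ x]
    exact h5

/-- **The common part of all rows.** -/
theorem row_core {F V G : Type*} [Field F] [Finite F] [AddCommGroup V] [Module F V] [FiniteDimensional F V] [Group G]
    [Finite G] {S : Type u} [Group S] [Finite S] {ρ : G →* (V ≃ₗ[F] V)} {π : G →* S} {P f N m : ℕ}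
    {ψ : SpecialLinearGroup (Fin 2) F →* (V ≃ₗ[F] V)} {d : ℕ} {κ : V →ₗ[F] (Fin d → Fin 2 → F)}
    (hP : P.Prime) (hF : Nat.card F = P ^ f) (hN : finrank F V = N) (R : Rp ρ π) (K : Nt ψ κ) (hd : 0 < d)
    (hNd : N ≤ m + d) (hmd : 2 * d < m) (hN0 : 0 < N)
    (hord : ∀ l : ℕ, l.Prime → (∀ j, l ∣ P ^ j - 1 ↔ f * m ∣ j) → ¬ l ∣ P → l ∣ Nat.card S)
    (h2 : 2 ∣ Nat.card S) (β : MulAut S) {p q : ℕ} (hp : p.Prime) (hq : q.Prime) (hpS : ¬ p ∣ Nat.card S)
    (hqS : q ∣ Nat.card S) (hβ : β ^ p = 1) (hpf : p ∣ f) {τ : F ≃+* F} (hτ : τ ≠ 1)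
    (M : V ≃+ V) (hM : ∀ (c : F) (v : V), M (c • v) = τ c • M v)
    (hcomp : ∀ g : G, ∃ g' : G, π g' = β (π g) ∧ ∀ v, ρ g' (M v) = M (ρ g v))
    {x₂ : G} {g₂ : SpecialLinearGroup (Fin 2) F} {c : F}
    (hc : c ^ 2 ≠ 1) (hg₂ : g₂.1 = !![c, 0; 0, c⁻¹]) (hx₂ : ρ x₂ = ψ g₂)
    (hx₂z : β (π x₂) ∈ zpowers (π x₂)) (hx₂n : β (π x₂) ≠ π x₂)
    (hcase : (∃ (y : G) (g : SpecialLinearGroup (Fin 2) F), g ≠ 1 ∧ g ^ q = 1 ∧ ρ y = ψ g) ∨
      (¬ q ∣ P ∧ ∀ j, 0 < j → j ≤ d → ¬ q ∣ Nat.card F ^ j - 1)) :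
    ∃ x : S, β x ∈ zpowers x ∧ β x ≠ x ∧ q ∣ (centralizer ({x} : Set S)).index := by
  have hp2 : p ≠ 2 := by
    rintro rfl
    exact hpS h2
  have hp3 : 3 ≤ p := by
    have := hp.two_le
    omega
  have hf0 : 0 < f := by
    rcases Nat.eq_zero_or_pos f with h | h
    · rw [h, pow_zero] at hF
      have := Finite.one_lt_card (α := F)
      omega
    · exact h
  have hf3 : 3 ≤ f := hp3.trans (Nat.le_of_dvd hf0 hpf)
  have hm3 : 3 ≤ m := by omega
  have h9 : 9 ≤ f * m := Nat.mul_le_mul hf3 hm3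
  obtain ⟨l, hl, hlj, -, hlP⟩ := Lib.Zsigmondy.exists_primitive (a := P) (n := f * m) hP.two_le (by omega)
    (fun h => by omega) (fun h => by omega)
  have D : Num F V P f N m l :=
    { pp := hP
      lp := hl
      cardF := hF
      rank := hN
      lt := by omega
      f0 := hf0
      m2 := by omega
      ne := hlP
      nd := fun j hj hjlt h => by
        have := Nat.le_of_dvd hj ((hlj j).1 h)
        omega }
  have hnt := D.nontrivial hN0
  have hlS := hord l hl hlj hlP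
  obtain ⟨x₁, hx₁, hx₁', hx₁z⟩ := D.strong R β hp hpS hβ hlS
  have hx₁n : β (π x₁) ≠ π x₁ := by
    intro h
    apply D.moved R β hp hpS hβ hτ M hM hcomp hx₁ hx₁'
    rw [h]
  have hqG : q ∣ Nat.card G := hqS.trans (card_dvd_of_surjective π R.surj)
  by_contra hcon
  push Not at hcon
  exact main D R K hd hN0 hNd hmd hq hqG hx₁ hx₁' hc hg₂ hx₂ (hcon _ hx₁z hx₁n) (hcon _ hx₂z hx₂n) hcase

/-- The two cases for the groups containing all of `SL₂(F)`. -/
theorem case_sl {F : Type*} [Field F] [Fintype F] {P f q : ℕ} (hP : P.Prime) (hF : Nat.card F = P ^ f)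
    (hq : q.Prime) : (∃ g : SpecialLinearGroup (Fin 2) F, g ≠ 1 ∧ g ^ q = 1) ∨
      (¬ q ∣ P ∧ ∀ j, 0 < j → j ≤ 2 → ¬ q ∣ Nat.card F ^ j - 1) := by
  have hcard := S0276.card_sl_two (F := F) rfl
  rw [← Nat.card_eq_fintype_card] at hcard
  by_cases h : q ∣ Nat.card (SpecialLinearGroup (Fin 2) F)
  · left
    have : Fact q.Prime := ⟨hq⟩
    obtain ⟨g, hg⟩ := exists_prime_orderOf_dvd_card' q h
    refine ⟨g, ?_, by rw [← hg]; exact pow_orderOf_eq_one g⟩
    rintro rfl
    rw [orderOf_one] at hg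
    exact hq.one_lt.ne hg
  · right
    have hf0 : f ≠ 0 := by
      rintro rfl
      rw [pow_zero] at hF
      have := Finite.one_lt_card (α := F)
      omega
    refine ⟨fun h1 => h ?_, fun j hj hj2 h1 => h ?_⟩
    · rw [hcard]
      exact (h1.trans (by rw [hF]; exact dvd_pow_self P hf0)).mul_right _
    · rw [hcard]
      refine Dvd.dvd.mul_left ?_ _
      rcases (by omega : j = 1 ∨ j = 2) with rfl | rfl
      · refine h1.trans ?_
        have := Nat.sub_dvd_pow_sub_pow (Nat.card F) 1 2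
        rwa [one_pow, pow_one] at *
      · exact h1

/-! ### `x₂` for field automorphisms -/

open Cfsg.Agent.H531

/-- The moved element of the torus (for a given generator). -/
theorem field_x2' {K : Type u} [Group K] {F : Type v} [Field F] (h2 : 2 ∣ Nat.card K)
    (φ : (F ≃+* F) →* MulAut K) (U : Subgroup Fˣ) [IsCyclic U] (h : U →* K)
    (hφ : ∀ (τ : F ≃+* F) (u u' : U), ((u' : Fˣ) : F) = τ ((u : Fˣ) : F) → φ τ (h u) = h u')
    (hker : ∀ u : U, h u = 1 → u ^ 2 = 1)
    (c : ℕ) (hc : ∀ p : ℕ, p.Prime → p ∣ c → p ∣ Nat.card K)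
    (τ : F ≃+* F) (hτU : ∀ g : Fˣ, g ∈ U → Units.map (τ : F →* F) g ∈ U)
    (hU : ∀ τ : F ≃+* F, (∀ u ∈ U, τ ((u : Fˣ) : F) = u) → φ τ ^ c = 1)
    {p : ℕ} (hp : p.Prime) (hpK : ¬ p ∣ Nat.card K) (hpow : φ τ ^ p = 1) (hne : φ τ ≠ 1)
    (u : U) (hu : ∀ x : U, x ∈ zpowers u) :
    φ τ (h u) ∈ zpowers (h u) ∧ φ τ (h u) ≠ h u ∧ (((u : Fˣ) : F)) ^ 2 ≠ 1 := by
  obtain ⟨m, hm⟩ : ∃ m : ℤ, (u ^ m : U) = (⟨Units.map (τ : F →* F) (u : Fˣ), hτU _ u.2⟩ : U) :=
    mem_zpowers_iff.1 (hu _)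
  have hmu : Units.map (τ : F →* F) (u : Fˣ) = (u : Fˣ) ^ m := by
    have := congrArg Subtype.val hm
    rw [Subgroup.coe_zpow] at this
    exact this.symm
  have h3 : φ τ (h u) = h u ^ m := by
    rw [← map_zpow]
    apply hφ
    rw [hm]
    rfl
  have hmov : φ τ (h u) ≠ h u := by
    intro h4
    have h5 : (u ^ (m - 1)) ^ 2 = 1 := by
      apply hker
      rw [map_zpow, zpow_sub_one, ← h3, h4, mul_inv_cancel]
    have h7 : τ (((u : Fˣ) : F)) = ((u : Fˣ) : F) * (((u ^ (m - 1) : U) : Fˣ) : F) := by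
      have h8 := congrArg Units.val hmu
      have h9 : ((u : Fˣ)) ^ m = (u : Fˣ) * ((u ^ (m - 1) : U) : Fˣ) := by
        rw [Subgroup.coe_zpow, zpow_sub_one, mul_comm, inv_mul_cancel_right]
      rw [h9] at h8
      exact h8
    have h10 : (((u ^ (m - 1) : U) : Fˣ) : F) ^ 2 = 1 := by
      have := congrArg (fun z : U => (((z : Fˣ)) : F)) h5
      simpa using this
    have h11 : τ (τ (((u : Fˣ) : F))) = ((u : Fˣ) : F) := by
      have h12 : τ ((((u ^ (m - 1) : U) : Fˣ) : F)) = (((u ^ (m - 1) : U) : Fˣ) : F) := by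
        rcases (sq_eq_one_iff.1 h10) with h | h
        · rw [h, map_one]
        · rw [h, map_neg, map_one]
      rw [h7, map_mul, h12, h7, mul_assoc, ← sq, h10, mul_one]
    have h6 : (φ (τ ^ 2)) ^ c = 1 := by
      apply hU
      intro v hv
      obtain ⟨k, hk⟩ := Subgroup.mem_zpowers_iff.1 (hu ⟨v, hv⟩)
      have h13 : Units.map ((τ ^ 2 : F ≃+* F) : F →* F) (u : Fˣ) = (u : Fˣ) := Units.ext h11
      have h14 : Units.map ((τ ^ 2 : F ≃+* F) : F →* F) ((u : Fˣ) ^ k) = (u : Fˣ) ^ k := by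
        rw [map_zpow, h13]
      have h15 : v = (u : Fˣ) ^ k := by
        have := congrArg Subtype.val hk
        simpa using this.symm
      rw [h15]
      exact congrArg Units.val h14
    rw [map_pow, ← pow_mul] at h6
    have h16 : Nat.Coprime p (2 * c) := by
      rw [Nat.Prime.coprime_iff_not_dvd hp]
      intro h
      rcases hp.dvd_mul.1 h with h | h
      · rw [(Nat.prime_dvd_prime_iff_eq hp Nat.prime_two).1 h] at hpK
        exact hpK h2
      · exact hpK (hc p hp h)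
    apply hne
    have h17 : orderOf (φ τ) ∣ Nat.gcd p (2 * c) :=
      Nat.dvd_gcd (orderOf_dvd_of_pow_eq_one hpow) (orderOf_dvd_of_pow_eq_one h6)
    rw [h16] at h17
    exact orderOf_eq_one_iff.1 (Nat.dvd_one.1 h17)
  refine ⟨?_, hmov, ?_⟩
  · rw [h3]
    exact Subgroup.zpow_mem _ (Subgroup.mem_zpowers _) _
  · intro h4
    apply hmov
    apply hφ
    rcases (sq_eq_one_iff.1 h4) with h | h
    · rw [h, map_one]
    · rw [h, map_neg, map_one]

/-- The moved element of the torus. -/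
theorem field_x2 {K : Type u} [Group K] {F : Type v} [Field F] [Finite F] (h2 : 2 ∣ Nat.card K)
    (φ : (F ≃+* F) →* MulAut K) (U : Subgroup Fˣ) (h : U →* K)
    (hφ : ∀ (τ : F ≃+* F) (u u' : U), ((u' : Fˣ) : F) = τ ((u : Fˣ) : F) → φ τ (h u) = h u')
    (hker : ∀ u : U, h u = 1 → u ^ 2 = 1)
    (c : ℕ) (hc : ∀ p : ℕ, p.Prime → p ∣ c → p ∣ Nat.card K)
    (hU : ∀ τ : F ≃+* F, (∀ u ∈ U, τ ((u : Fˣ) : F) = u) → φ τ ^ c = 1)
    {p : ℕ} (hp : p.Prime) (hpK : ¬ p ∣ Nat.card K) {τ : F ≃+* F} (hpow : φ τ ^ p = 1) (hne : φ τ ≠ 1) :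
    ∃ u : U, φ τ (h u) ∈ zpowers (h u) ∧ φ τ (h u) ≠ h u ∧ (((u : Fˣ) : F)) ^ 2 ≠ 1 := by
  have hcyc : IsCyclic U := inferInstance
  obtain ⟨u, hu⟩ := IsCyclic.exists_generator (α := U)
  obtain ⟨m, hm⟩ := MonoidHom.map_cyclic (Units.map (τ : F →* F))
  exact ⟨u, field_x2' h2 φ U h hφ hker c hc τ (fun g hg => by rw [hm]; exact U.zpow_mem hg m) hU hp hpK hpow hne u hu⟩

/-- `p` divides the degree of the field -/
theorem dvd_degree {K : Type u} [Group K] {F : Type v} [Field F] [Fintype F] (φ : (F ≃+* F) →* MulAut K)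
    {P f p : ℕ} (hP : P.Prime) (hF : Fintype.card F = P ^ f) (hp : p.Prime) {τ : F ≃+* F} (hpow : φ τ ^ p = 1)
    (hne : φ τ ≠ 1) : p ∣ f := by
  have : Fact P.Prime := ⟨hP⟩
  have hf0 : 0 < f := by
    rcases Nat.eq_zero_or_pos f with h | h
    · rw [h, pow_zero] at hF
      have := Fintype.one_lt_card (α := F)
      omega
    · exact h
  have hfin : Finite (F ≃+* F) := Finite.of_injective (fun f : F ≃+* F => (f : F → F)) DFunLike.coe_injective
  have h1 : Nat.card (F ≃+* F) = f := by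
    have hch : CharP F P := by
      obtain ⟨p', hp'⟩ := CharP.exists F
      obtain ⟨n, hp'', hn⟩ := FiniteField.card F p'
      have : p' = P := by
        have h2 : p' ∣ P ^ f := by rw [← hF, hn]; exact dvd_pow_self _ n.pos.ne'
        exact (Nat.prime_dvd_prime_iff_eq hp'' hP).1 (hp''.dvd_of_dvd_pow h2)
      rwa [← this]
    exact Lib.FieldAutCard.card_ringAut hf0 hF
  have : Fact p.Prime := ⟨hp⟩
  have ho : orderOf (φ τ) = p := orderOf_eq_prime hpow hne
  rw [← ho, ← h1]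
  exact (orderOf_map_dvd φ τ).trans (orderOf_dvd_natCard τ)

/-! ### Matrices -/

section mat

variable {F : Type*} [Field F] {ι : Type} [Fintype ι] [DecidableEq ι] {G : Type*} [Group G]

/-- the representation given by a homomorphism to matrices -/
def rho (mat : G →* Matrix ι ι F) : G →* ((ι → F) ≃ₗ[F] (ι → F)) where
  toFun g := LinearEquiv.ofLinear (Matrix.mulVecLin (mat g)) (Matrix.mulVecLin (mat g⁻¹))
    (by rw [← Matrix.mulVecLin_mul, ← map_mul, mul_inv_cancel, map_one, Matrix.mulVecLin_one])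
    (by rw [← Matrix.mulVecLin_mul, ← map_mul, inv_mul_cancel, map_one, Matrix.mulVecLin_one])
  map_one' := by
    ext v
    show (mat 1 *ᵥ v) _ = v _
    rw [map_one, Matrix.one_mulVec]
  map_mul' g h := by
    ext1 v
    show mat (g * h) *ᵥ v = mat g *ᵥ (mat h *ᵥ v)
    rw [map_mul, Matrix.mulVec_mulVec]

theorem rho_apply (mat : G →* Matrix ι ι F) (g : G) (v : ι → F) : rho mat g v = mat g *ᵥ v := rfl

theorem rho_injective {mat : G →* Matrix ι ι F} (h : Function.Injective mat) : Function.Injective (rho mat) := by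
  intro g g' hgg
  apply h
  apply Matrix.toLin'.injective
  apply LinearMap.ext
  intro v
  exact LinearEquiv.congr_fun hgg v

open Cfsg.Agent.KFacts.MulOdd.TypeA Cfsg.Agent.H531.RMPsp

/-- the embedding of `SL₂` as matrices -/
def blkMat {a b : ι} (hab : a ≠ b) : SpecialLinearGroup (Fin 2) F →* Matrix ι ι F where
  toFun g := NN a b g.1
  map_one' := NN_one hab
  map_mul' x y := NN_mul hab x.1 y.1

/-- the coordinates -/
def kap (a b : ι) : (ι → F) →ₗ[F] (Fin 1 → Fin 2 → F) where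
  toFun v := fun _ => ![v a, v b]
  map_add' u v := by
    funext i j
    fin_cases j <;> rfl
  map_smul' c v := by
    funext i j
    fin_cases j <;> rfl

theorem nt_blk {a b : ι} (hab : a ≠ b) : Nt (rho (blkMat (F := F) hab)) (kap (F := F) a b) where
  surj := by
    intro u
    refine ⟨fun i => if i = a then u 0 0 else u 0 1, ?_⟩
    funext i j
    have hi : i = 0 := Subsingleton.elim _ _
    subst hi
    fin_cases j
    · show (if a = a then u 0 0 else u 0 1) = u 0 0
      rw [if_pos rfl]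
    · show (if b = a then u 0 0 else u 0 1) = u 0 1
      rw [if_neg hab.symm]
  nat := by
    intro g v i
    funext j
    fin_cases j
    · show (NN a b g.1 *ᵥ v) a = (g.1 *ᵥ ![v a, v b]) 0
      rw [NN_mulVec_fst hab]
      simp [Matrix.mulVec, dotProduct, Fin.sum_univ_two]
    · show (NN a b g.1 *ᵥ v) b = (g.1 *ᵥ ![v a, v b]) 1
      rw [NN_mulVec_snd hab]
      simp [Matrix.mulVec, dotProduct, Fin.sum_univ_two]
  fix := by
    intro g v h
    have h0 : g.1 *ᵥ ![v a, v b] = ![v a, v b] := h 0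
    show NN a b g.1 *ᵥ v = v
    funext i
    by_cases ha : i = a
    · subst ha
      rw [NN_mulVec_fst hab]
      have := congrFun h0 0
      simpa [Matrix.mulVec, dotProduct, Fin.sum_univ_two] using this
    · by_cases hb : i = b
      · subst hb
        rw [NN_mulVec_snd hab]
        have := congrFun h0 1
        simpa [Matrix.mulVec, dotProduct, Fin.sum_univ_two] using this
      · exact NN_mulVec_other _ _ ha hb

/-- entrywise field automorphism -/
def frobE (ι : Type) (τ : F ≃+* F) : (ι → F) ≃+ (ι → F) where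
  toFun v := fun i => τ (v i)
  invFun v := fun i => τ.symm (v i)
  left_inv v := funext fun i => τ.symm_apply_apply _
  right_inv v := funext fun i => τ.apply_symm_apply _
  map_add' u v := funext fun i => map_add τ _ _

theorem frobE_apply (τ : F ≃+* F) (v : ι → F) (i : ι) : frobE ι τ v i = τ (v i) := rfl

theorem frobE_smul (τ : F ≃+* F) (c : F) (v : ι → F) : frobE ι τ (c • v) = τ c • frobE ι τ v :=
  funext fun i => map_mul τ c (v i)

theorem map_mulVec_frobE (τ : F ≃+* F) (A : Matrix ι ι F) (v : ι → F) :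
    A.map τ *ᵥ frobE ι τ v = frobE ι τ (A *ᵥ v) := by
  funext i
  show ∑ j, τ (A i j) * τ (v j) = τ (∑ j, A i j * v j)
  rw [map_sum]
  exact Finset.sum_congr rfl fun j _ => (map_mul τ _ _).symm

end mat

end Cfsg.Agent.H531.TQ
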