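import Cfsg.Agent.H531.TQ.RowChev
import Cfsg.Agent.H531.TQ.RowPsl
import Cfsg.Agent.H531.TQ.RowPsp
import Cfsg.Agent.H531.TQ.RowPsu
import Cfsg.Agent.H531.TQ.RowOrth
import Cfsg.Agent.H531.TQ.RowSz
import Cfsg.Agent.H531.FMMain
import Cfsg.Agent.H532.TQPsl2
import Cfsg.Agent.H551.TQDFour
import Cfsg.Agent.H551.TQRee

/-!
# `STQ` for the known non-abelian simple groups
-/

set_option autoImplicit false

namespace Cfsg.Agent.H531.TQ

open Cfsg

universe u v

theorem STQ.of_tq {K : Type u} [Group K] (h : H551.TQ K) : STQ K :=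
  fun p q hp hq hpK hqK α hα hne => h p q α hp hq hpK hqK hα hne

/-- Transport from a model. -/
theorem of_model {M : Type v} [Group M]
    (h : Finite M → IsSimpleGroup M → ¬ IsMulCommutative M → 2 ∣ Nat.card M → STQ M)
    (K : Type u) [Group K] [Finite K] [IsSimpleGroup K] (hK : ¬ IsMulCommutative K)
    (e : Nonempty (K ≃* M)) : STQ K := by
  obtain ⟨e⟩ := e
  have h1 : Finite M := Finite.of_equiv K e.toEquiv
  have hsm : IsSimpleGroup M := e.symm.isSimpleGroup
  have hna : ¬ IsMulCommutative M := by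
    intro hc
    apply hK
    refine ⟨⟨fun a b => e.injective ?_⟩⟩
    rw [map_mul, map_mul]
    exact hc.is_comm.comm _ _
  exact (h h1 hsm hna (by rw [← Nat.card_congr e.toEquiv]; exact RMMain.two_dvd K hK)).of_equiv e.symm

theorem alternating (K : Type u) [Group K] [Finite K] [IsSimpleGroup K] (hK : ¬ IsMulCommutative K)
    (h : IsAlternating K) : STQ K := by
  obtain ⟨n, hn, ⟨e⟩⟩ := h
  by_cases h6 : n = 6
  · subst h6
    haveI : Fact (Nat.Prime 3) := ⟨Nat.prime_three⟩
    letI : Fintype (GaloisField 3 2) := Fintype.ofFinite _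
    have hF : Fintype.card (GaloisField 3 2) = 9 := by
      rw [← Nat.card_eq_fintype_card, GaloisField.card 3 2 (by norm_num)]; norm_num
    obtain ⟨e'⟩ := S0254.result (F := GaloisField 3 2) hF
    exact of_model (M := Matrix.ProjectiveSpecialLinearGroup (Fin 2) (GaloisField 3 2))
      (fun _ _ h3 h4 => H532.TQPsl2.stq_psl2 (by omega) h3 h4) K hK ⟨e.trans e'.symm⟩
  · exact STQ.of_copTriv ((H254.Alt.copTriv hn h6).of_equiv e.symm)

/-- **`STQ` for the known non-abelian simple groups.** -/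
theorem known_of (K : Type u) [Group K] [Finite K] [IsSimpleGroup K] (hna : ¬ IsMulCommutative K)
    (hk : IsKnownSimple' K) : STQ K := by
  rcases hk with hk | hk | hk | hk | hk | hk | hk | hk | hk | hk
  · exfalso
    apply hna
    have h1 : Fact (Nat.card K).Prime := ⟨hk⟩
    have h2 : IsCyclic K := isCyclic_of_prime_card (p := Nat.card K) rfl
    exact IsCyclic.isMulCommutative
  · exact alternating K hna hk
  · obtain ⟨F, _, _, n, hn, h4, e⟩ := hk
    rcases Nat.lt_or_ge n 3 with h3 | h3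
    · have hn2 : n = 2 := by omega
      subst hn2
      exact of_model (fun _ _ h1 h2 => H532.TQPsl2.stq_psl2 (h4 rfl) h1 h2) K hna e
    · exact of_model (fun _ _ h1 h2 => psl h3 h1 h2) K hna e
  · obtain ⟨F, _, _, m, hm, h3, e⟩ := hk
    exact of_model (fun _ _ h1 h2 => psp hm h3 h1 h2) K hna e
  · obtain ⟨F, _, _, n, q, hF, hn, h32, e⟩ := hk
    exact of_model (fun _ _ h1 h2 => psu hF hn h32 h1 h2) K hna e
  · obtain ⟨F, _, _, m, hm, hodd, e⟩ := hk
    exact of_model (fun _ _ h1 h2 => odd hm hodd h1 h2) K hna e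
  · obtain ⟨F, _, _, m, hm, e⟩ := hk
    exact of_model (fun _ _ h1 h2 => plus hm h1 h2) K hna e
  · obtain ⟨F, _, _, m, a, b, hm, hab, e⟩ := hk
    exact of_model (fun _ _ h1 h2 => minus hm a b hab h1 h2) K hna e
  · rcases hk with hk | hk | hk | hk | hk | hk | hk | hk | hk | hk | hk
    · obtain ⟨F, _, _, h3, e⟩ := hk
      exact of_model (fun _ _ _ _ => chevG2_stq h3) K hna e
    · obtain ⟨F, _, _, e⟩ := hk
      exact of_model (fun _ _ _ _ => chevF4_stq) K hna e
    · obtain ⟨F, _, _, e⟩ := hk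
      exact of_model (fun _ _ _ _ => chevE6_stq) K hna e
    · obtain ⟨F, _, _, e⟩ := hk
      exact of_model (fun _ _ _ _ => chevE7_stq) K hna e
    · obtain ⟨F, _, _, e⟩ := hk
      exact of_model (fun _ _ _ _ => chevE8_stq) K hna e
    · obtain ⟨F, _, _, q, hq, hF, e⟩ := hk
      exact of_model (fun _ _ _ _ => STQ.of_tq (H551.tq_2e6 hq hF
        (H967.CopTw.row_2e6 hq hF (Schreier.TwESix.sch hq hF)))) K hna e
    · obtain ⟨F, _, _, q, hq, hF, e⟩ := hk
      exact of_model (fun _ _ _ _ => STQ.of_tq (H551.tq_3d4 hq hF (H967.CopTw.row_d4 hq hF))) K hna e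
    · obtain ⟨F, _, _, m, hm, hF, e⟩ := hk
      exact of_model (fun _ _ _ _ => STQ.of_tq (tq_sz hm hF)) K hna e
    · obtain ⟨F, _, _, m, hm, hF, e⟩ := hk
      exact of_model (fun _ _ _ _ => STQ.of_tq (H551.tq_ree hm hF)) K hna e
    · obtain ⟨F, _, _, m, hm, hF, e⟩ := hk
      exact of_model (fun _ _ _ _ => STQ.of_tq (H551.tq_2f4 hm hF)) K hna e
    · exact STQ.of_copTriv (H254.CopSpor.tits_triv hk)
  · exact STQ.of_copTriv (H254.CopSpor.sporadic_triv hk)

end Cfsg.Agent.H531.TQ
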