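import Cfsg.Agent.H531.TQ.Add
import Cfsg.Agent.H531.TwoPrimes
import Cfsg.Agent.H532.Thr.Aut

/-!
# Classical groups: moved elements which are not `q`-central (linear algebra)

`main` : the abstract criterion.
-/

set_option autoImplicit false
set_option linter.unusedSectionVars false

namespace Cfsg.Agent.H531.TQ

open Subgroup Module

universe u v

/-! ### Groups -/

theorem sylow_conj {S : Type*} [Group S] [Finite S] {q k : ℕ} (hq : q.Prime) {x y : S}
    (hx : ¬ q ∣ (centralizer ({x} : Set S)).index) (hy : y ^ q ^ k = 1) : ∃ s, Commute y (s * x * s⁻¹) := by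
  have : Fact q.Prime := ⟨hq⟩
  have h1 : IsPGroup q (zpowers y) := by
    rintro ⟨_, j, rfl⟩
    refine ⟨k, Subtype.ext ?_⟩
    show (y ^ j) ^ q ^ k = 1
    rw [← zpow_natCast, ← zpow_mul, mul_comm, zpow_mul, zpow_natCast, hy, one_zpow]
  obtain ⟨P, hP⟩ := h1.exists_le_sylow
  obtain ⟨s, hs⟩ := TwoPrimes.conj_mem_centralizer P hx
  refine ⟨s, ?_⟩
  exact mem_centralizer_iff.1 hs y (hP (mem_zpowers y))

open Cfsg.Agent.H532.Thr in
/-- an element whose cyclic subgroup is invariant but which is not fixed is not conjugate to its image -/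
theorem not_isConj_of_zpowers {S : Type u} [Group S] [Finite S] (α : MulAut S) {p : ℕ} (hp : p.Prime)
    (hpS : ¬ p ∣ Nat.card S) (hα : α ^ p = 1) {x : S} (hx : α x ∈ zpowers x) (hne : α x ≠ x) : ¬ IsConj x (α x) := by
  intro hc
  have hcop : Cop α p := ⟨hp.pos, hα, (Nat.Prime.coprime_iff_not_dvd hp).2 hpS⟩
  obtain ⟨g, hg⟩ := hcop.exists_conj_fix hc
  have hg' : α g * α x * (α g)⁻¹ = g * x * g⁻¹ := by
    have : α (g * x * g⁻¹) = g * x * g⁻¹ := hg
    rwa [map_mul, map_mul, map_inv] at this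
  obtain ⟨k, hk⟩ := mem_zpowers_iff.1 hx
  set h : S := (α g)⁻¹ * g with hh
  have h1 : h * x * h⁻¹ = x ^ k := by
    rw [hk, hh]
    calc (α g)⁻¹ * g * x * ((α g)⁻¹ * g)⁻¹ = (α g)⁻¹ * (g * x * g⁻¹) * α g := by group
      _ = (α g)⁻¹ * (α g * α x * (α g)⁻¹) * α g := by rw [hg']
      _ = α x := by group
  have h2 : ∀ j : ℕ, h ^ j * x * (h ^ j)⁻¹ = x ^ (k ^ j) := by
    intro j
    induction j with
    | zero => simp
    | succ j ih =>
      have h4 : h ^ (j + 1) * x * (h ^ (j + 1))⁻¹ = h ^ j * (h * x * h⁻¹) * (h ^ j)⁻¹ := by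
        rw [pow_succ]; group
      have h5 : h ^ j * x ^ k * (h ^ j)⁻¹ = (h ^ j * x * (h ^ j)⁻¹) ^ k := (conj_zpow).symm
      rw [h4, h1, h5, ih, ← zpow_mul, pow_succ]
  have h3 : ∀ j : ℕ, (α ^ j) x = x ^ (k ^ j) := by
    intro j
    induction j with
    | zero => simp
    | succ j ih =>
      rw [pow_succ, MulAut.mul_apply, ← hk, map_zpow, ih, ← zpow_mul, pow_succ]
  have hS1 : 1 < Nat.card S := by
    by_contra hlt
    have h0 : 0 < Nat.card S := Nat.card_pos
    have h1 : Nat.card S = 1 := by omega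
    have : Subsingleton S := (Nat.card_eq_one_iff_unique.1 h1).1
    exact hne (Subsingleton.elim _ _)
  obtain ⟨u, -, hu⟩ := Nat.exists_mul_mod_eq_one_of_coprime hcop.cop hS1
  have h4 : p * u = 1 + Nat.card S * (p * u / Nat.card S) := by
    have := Nat.mod_add_div (p * u) (Nat.card S)
    omega
  have h5 := h3 (p * u)
  rw [pow_mul, hα, one_pow, MulAut.one_apply] at h5
  have h6 := h2 (p * u)
  rw [← h5, h4, pow_add, pow_one, pow_mul, pow_card_eq_one', one_pow, mul_one, h1, hk] at h6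
  exact hne h6

/-! ### Linear representations modulo scalars -/

section rep

variable {F V G S : Type*} [Field F] [AddCommGroup V] [Module F V] [Group G] [Group S]

/-- a faithful representation of `G` and a quotient of `G` by scalars -/
structure Rp (ρ : G →* (V ≃ₗ[F] V)) (π : G →* S) : Prop where
  inj : Function.Injective ρ
  surj : Function.Surjective π
  ker : ∀ z, π z = 1 → ∃ c : F, ∀ v, ρ z v = c • v

variable {ρ : G →* (V ≃ₗ[F] V)} {π : G →* S}

theorem Rp.ext (R : Rp ρ π) {g h : G} (e : ∀ v, ρ g v = ρ h v) : g = h :=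
  R.inj (LinearEquiv.ext e)

theorem Rp.central (R : Rp ρ π) {z : G} (hz : π z = 1) (g : G) : Commute z g := by
  obtain ⟨c, hc⟩ := R.ker z hz
  apply R.ext
  intro v
  rw [map_mul, map_mul, LinearEquiv.mul_apply, LinearEquiv.mul_apply, hc, hc, map_smul]

theorem Rp.pow_card (R : Rp ρ π) [Finite F] [Nontrivial V] {z : G} (hz : π z = 1) : z ^ (Nat.card F - 1) = 1 := by
  obtain ⟨c, hc⟩ := R.ker z hz
  have hc0 : c ≠ 0 := by
    rintro rfl
    obtain ⟨v, hv⟩ := exists_ne (0 : V)
    apply hv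
    apply (ρ z).injective
    rw [hc, zero_smul, map_zero]
  apply R.ext
  intro v
  have h1 : ∀ n : ℕ, ρ (z ^ n) v = c ^ n • v := by
    intro n
    induction n with
    | zero => rw [pow_zero, pow_zero, map_one, one_smul]; rfl
    | succ n ih => rw [pow_succ', map_mul, LinearEquiv.mul_apply, ih, map_smul, hc, smul_smul, pow_succ]
  have h2 : c ^ (Nat.card F - 1) = 1 := by
    have := Fintype.ofFinite F
    rw [Nat.card_eq_fintype_card]
    exact FiniteField.pow_card_sub_one_eq_one c hc0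
  rw [h1, h2, one_smul, map_one]
  rfl

theorem Rp.eq_one (R : Rp ρ π) [Finite F] [Nontrivial V] {z : G} (hz : π z = 1) {n : ℕ} (hn : n.Coprime (Nat.card F - 1))
    (h : z ^ n = 1) : z = 1 := by
  have h1 : orderOf z ∣ Nat.gcd n (Nat.card F - 1) :=
    Nat.dvd_gcd (orderOf_dvd_of_pow_eq_one h) (orderOf_dvd_of_pow_eq_one (R.pow_card hz))
  rw [hn] at h1
  exact orderOf_eq_one_iff.1 (Nat.dvd_one.1 h1)

/-- lifts of commuting elements commute -/
theorem Rp.commute (R : Rp ρ π) [Finite F] [Nontrivial V] {a b : G} {n : ℕ} (hab : Commute (π a) (π b)) (ha : a ^ n = 1)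
    (hn : n.Coprime (Nat.card F - 1)) : Commute a b := by
  set z : G := b * a * b⁻¹ * a⁻¹ with hz
  have hz1 : π z = 1 := by
    rw [hz, map_mul, map_mul, map_mul, map_inv, map_inv, ← hab.eq]; group
  have h1 : z * a = b * a * b⁻¹ := by rw [hz]; group
  have h2 : z ^ n = 1 := by
    have h3 : (z * a) ^ n = 1 := by rw [h1, conj_pow, ha, mul_one, mul_inv_cancel]
    rwa [(R.central hz1 a).mul_pow, ha, mul_one] at h3
  have h3 := R.eq_one hz1 hn h2
  rw [h3, one_mul] at h1
  show a * b = b * a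
  nth_rewrite 1 [h1]
  group

end rep

/-! ### The numerical data -/

/-- `|F| = P ^ f`, `dim V = N`, `l` a primitive prime divisor of `P ^ (f m) - 1`, `N < 2 m` -/
structure Num (F V : Type*) [Field F] [AddCommGroup V] [Module F V] (P f N m l : ℕ) : Prop where
  pp : P.Prime
  lp : l.Prime
  cardF : Nat.card F = P ^ f
  rank : finrank F V = N
  lt : N < 2 * m
  f0 : 0 < f
  m2 : 2 ≤ m
  ne : ¬ l ∣ P
  nd : ∀ j, 0 < j → j < f * m → ¬ l ∣ P ^ j - 1

/-- an automorphism as an additive homomorphism -/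
def ad {F V : Type*} [Field F] [AddCommGroup V] [Module F V] (g : V ≃ₗ[F] V) : V →+ V := g.toLinearMap.toAddMonoidHom

theorem ad_apply {F V : Type*} [Field F] [AddCommGroup V] [Module F V] (g : V ≃ₗ[F] V) (v : V) : ad g v = g v := rfl

section

variable {F V G S : Type*} [Field F] [AddCommGroup V] [Module F V] [Group G] [Group S]
variable {ρ : G →* (V ≃ₗ[F] V)} {π : G →* S} {P f N m l : ℕ}

theorem Num.card [Finite F] [FiniteDimensional F V] (D : Num F V P f N m l) : Nat.card V = P ^ (f * N) := by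
  rw [Module.natCard_eq_pow_finrank (K := F) (V := V), D.cardF, D.rank, pow_mul]

theorem Num.cop (D : Num F V P f N m l) : l.Coprime (Nat.card F - 1) := by
  rw [Nat.Prime.coprime_iff_not_dvd D.lp, D.cardF]
  apply D.nd _ D.f0
  have h1 := D.m2
  have h2 := D.f0
  nlinarith

theorem Num.nontrivial (D : Num F V P f N m l) (hN : 0 < N) : Nontrivial V := by
  apply Module.nontrivial_of_finrank_pos (R := F)
  rw [D.rank]; exact hN

theorem iterate_ad (g : G) (n : ℕ) (v : V) : (ad (ρ g))^[n] v = ρ (g ^ n) v := by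
  induction n generalizing v with
  | zero => rw [pow_zero, map_one]; rfl
  | succ n ih => rw [Function.iterate_succ_apply', ih, ad_apply, pow_succ', map_mul, LinearEquiv.mul_apply]

theorem Num.sg [Finite F] [FiniteDimensional F V] (D : Num F V P f N m l) (R : Rp ρ π) {x : G} (hx : x ^ l = 1)
    (hne : x ≠ 1) : Sg (ad (ρ x)) P l (f * m) (f * N) where
  pp := D.pp
  lp := D.lp
  card := D.card
  lt := by
    have h1 := D.lt
    have h2 := D.f0
    nlinarith
  ne := D.ne
  nd := D.nd
  pow := fun v => by rw [iterate_ad, hx, map_one]; rfl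
  ntriv := by
    by_contra hcon
    push Not at hcon
    apply hne
    apply R.ext
    intro v
    rw [map_one]
    exact hcon v

open Cfsg.Agent.H532.Thr in
/-- **Zsigmondy elements are moved by semilinear automorphisms.** -/
theorem Num.moved {S : Type u} [Group S] {π : G →* S} [Finite S] [Finite F] [FiniteDimensional F V] [Nontrivial V]
    (D : Num F V P f N m l) (R : Rp ρ π)
    (α : MulAut S) {p : ℕ} (hp : p.Prime) (hpS : ¬ p ∣ Nat.card S) (hα : α ^ p = 1) {τ : F ≃+* F} (hτ : τ ≠ 1)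
    (M : V ≃+ V) (hM : ∀ (c : F) (v : V), M (c • v) = τ c • M v)
    (hcomp : ∀ g : G, ∃ g' : G, π g' = α (π g) ∧ ∀ v, ρ g' (M v) = M (ρ g v))
    {x : G} (hx : x ^ l = 1) (hne : x ≠ 1) : ¬ IsConj (π x) (α (π x)) := by
  intro hc
  have hcop : Cop α p := ⟨hp.pos, hα, (Nat.Prime.coprime_iff_not_dvd hp).2 hpS⟩
  obtain ⟨s, hs⟩ := hcop.exists_conj_fix hc
  obtain ⟨t, rfl⟩ := R.surj s
  have hs' : α (π (t * x * t⁻¹)) = π (t * x * t⁻¹) := by
    have h1 : α (π t * π x * (π t)⁻¹) = π t * π x * (π t)⁻¹ := hs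
    rwa [← map_inv, ← map_mul, ← map_mul] at h1
  set g : G := t * x * t⁻¹ with hg
  have hgl : g ^ l = 1 := by rw [hg, conj_pow, hx, mul_one, mul_inv_cancel]
  have hgne : g ≠ 1 := by
    intro h1
    apply hne
    have : x = t⁻¹ * g * t := by rw [hg]; group
    rw [this, h1]; group
  obtain ⟨g', hg'1, hg'2⟩ := hcomp g
  rw [hs'] at hg'1
  -- `g' = z g`
  set z : G := g' * g⁻¹ with hz
  have hz1 : π z = 1 := by rw [hz, map_mul, map_inv, hg'1, mul_inv_cancel]
  have hzg : z * g = g' := by rw [hz]; group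
  have hg'l : g' ^ l = 1 := by
    apply R.ext
    intro v
    obtain ⟨v, rfl⟩ := M.surjective v
    have h1 : ∀ n : ℕ, ∀ v, ρ (g' ^ n) (M v) = M (ρ (g ^ n) v) := by
      intro n
      induction n with
      | zero => intro v; rw [pow_zero, pow_zero, map_one]; rfl
      | succ n ih =>
        intro v
        rw [pow_succ, pow_succ, map_mul, map_mul, LinearEquiv.mul_apply, LinearEquiv.mul_apply, hg'2, ih]
    rw [h1, hgl, map_one]
    rfl
  have hz2 : z ^ l = 1 := by
    rw [← hzg, (R.central hz1 g).mul_pow, hgl, mul_one] at hg'l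
    exact hg'l
  have hz3 := R.eq_one hz1 D.cop hz2
  rw [hz3, one_mul] at hzg
  rw [← hzg] at hg'2
  -- `M` commutes with `ρ g`
  have hfV : Finite V := Module.finite_of_finite F
  have hsg := D.sg R hgl hgne
  apply hτ
  ext c
  obtain ⟨v, hv⟩ := hsg.ntriv
  set w : V := dm (ad (ρ g)) v with hw
  have hw0 : w ≠ 0 := by
    intro h0
    rw [hw, dm_apply, sub_eq_zero] at h0
    exact hv h0
  let η : V →+ V := DistribSMul.toAddMonoidHom V c
  have h1 := hsg.comm M.toAddMonoidHom η (fun v => (hg'2 v).symm) (fun v => (map_smul (ρ g) c v).symm) w ⟨v, rfl⟩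
  have h2 : M (c • w) = c • M w := h1
  rw [hM] at h2
  have h3 : (τ c - c) • M w = 0 := by rw [sub_smul, h2, sub_self]
  rcases smul_eq_zero.1 h3 with h4 | h4
  · exact sub_eq_zero.1 h4
  · exfalso
    apply hw0
    apply M.injective
    rw [h4, map_zero]

end

end Cfsg.Agent.H531.TQ
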