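import Cfsg.Agent.H531.TQ.Lin

/-!
# Classical groups: moved elements which are not `q`-central (main criterion)

`main` : the abstract criterion.
-/

set_option autoImplicit false
set_option linter.unusedSectionVars false

namespace Cfsg.Agent.H531.TQ

open Subgroup Module
open Matrix (SpecialLinearGroup)

universe u v

section eig

variable {F V : Type*} [Field F] [AddCommGroup V] [Module F V]

/-- eigenspace -/
def eig (g : V ≃ₗ[F] V) (c : F) : Submodule F V := LinearMap.ker (g.toLinearMap - c • LinearMap.id)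

theorem mem_eig {g : V ≃ₗ[F] V} {c : F} {v : V} : v ∈ eig g c ↔ g v = c • v := by
  rw [eig, LinearMap.mem_ker, LinearMap.sub_apply, LinearMap.smul_apply, LinearMap.id_apply, sub_eq_zero]
  rfl

variable [Finite F] [FiniteDimensional F V]

/-- a `q`-element acts trivially on small subspaces -/
theorem fixed_of_small {q d : ℕ} (hq : q.Prime) (hqF : ¬ q ∣ Nat.card F)
    (hqd : ∀ j, 0 < j → j ≤ d → ¬ q ∣ Nat.card F ^ j - 1) {y : V ≃ₗ[F] V} (hy : y ^ q = 1) (E : Submodule F V)
    (hE : ∀ v ∈ E, y v ∈ E) (hd : finrank F E ≤ d) : ∀ v ∈ E, y v = v := by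
  have hfV : Finite V := Module.finite_of_finite F
  let Fx : Submodule F V := E ⊓ eig y 1
  have hle : Fx ≤ E := inf_le_left
  have h1 : Nat.card E = Nat.card F ^ finrank F E := Module.natCard_eq_pow_finrank
  have h2 : Nat.card Fx = Nat.card F ^ finrank F Fx := Module.natCard_eq_pow_finrank
  let f : E → E := fun w => ⟨y w, hE w w.2⟩
  have hf : ∀ n : ℕ, ∀ w : E, ((f^[n] w : E) : V) = (y ^ n) (w : V) := by
    intro n
    induction n with
    | zero => intro w; rfl
    | succ n ih =>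
      intro w
      rw [Function.iterate_succ_apply', pow_succ', LinearEquiv.mul_apply]
      show y ((f^[n] w : E) : V) = y _
      rw [ih]
  have h3 := card_modEq (f := f) (k := 1) hq (fun w => Subtype.ext (by rw [hf, pow_one, hy]; rfl))
  have h4 : Nat.card {w : E // f w = w} = Nat.card Fx := by
    apply Nat.card_congr
    refine ⟨fun w => ⟨w.1.1, w.1.2, ?_⟩, fun w => ⟨⟨w.1, w.2.1⟩, ?_⟩, fun w => rfl, fun w => rfl⟩
    · show w.1.1 ∈ eig y 1
      rw [mem_eig, one_smul]
      exact congrArg Subtype.val w.2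
    · have h5 : w.1 ∈ eig y 1 := w.2.2
      rw [mem_eig, one_smul] at h5
      exact Subtype.ext h5
  rw [h4, h1, h2] at h3
  have h5 := eq_of_modEq hq hqF (Submodule.finrank_mono hle) (fun j hj hje => hqd j hj (hje.trans hd)) h3
  have h6 : Fx = E := Submodule.eq_of_le_of_finrank_eq hle h5.symm
  intro v hv
  rw [← h6] at hv
  have h7 : v ∈ eig y 1 := hv.2
  rwa [mem_eig, one_smul] at h7

end eig

section nat

variable {F V : Type*} [Field F] [AddCommGroup V] [Module F V]

/-- `V` is the sum of `d` natural modules and a trivial module for `SL₂(F)` -/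
structure Nt (ψ : SpecialLinearGroup (Fin 2) F →* (V ≃ₗ[F] V)) {d : ℕ} (κ : V →ₗ[F] (Fin d → Fin 2 → F)) : Prop where
  surj : Function.Surjective κ
  nat : ∀ g v i, κ (ψ g v) i = g.1.mulVec (κ v i)
  fix : ∀ g v, (∀ i, g.1.mulVec (κ v i) = κ v i) → ψ g v = v

variable {ψ : SpecialLinearGroup (Fin 2) F →* (V ≃ₗ[F] V)} {d : ℕ} {κ : V →ₗ[F] (Fin d → Fin 2 → F)}

theorem card_pi {X : Type*} (p : X → Prop) (d : ℕ) :
    Nat.card {u : Fin d → X // ∀ i, p (u i)} = Nat.card {x // p x} ^ d := by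
  rw [Nat.card_congr (Equiv.subtypePiEquivPi (β := fun _ : Fin d => X) (p := fun _ x => p x))]
  rw [Nat.card_fun, Nat.card_fin]

/-- the eigenspaces -/
theorem Nt.card_eig [Finite F] (K : Nt ψ κ) (g : SpecialLinearGroup (Fin 2) F) {e : F} (he : e ≠ 1)
    (hc : Nat.card {w : Fin 2 → F // g.1.mulVec w = e • w} = Nat.card F) :
    Nat.card (eig (ψ g) e) = Nat.card F ^ d := by
  rw [← hc, ← card_pi]
  have hfix : ∀ v, κ v = 0 → ψ g v = v := by
    intro v hv
    apply K.fix
    intro i
    rw [hv]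
    exact Matrix.mulVec_zero _
  let φ : eig (ψ g) e → {u : Fin d → Fin 2 → F // ∀ i, g.1.mulVec (u i) = e • u i} := fun v =>
    ⟨κ v, fun i => by
      have h1 := mem_eig.1 v.2
      rw [← K.nat, h1, map_smul]
      rfl⟩
  apply Nat.card_congr
  apply Equiv.ofBijective φ
  constructor
  · intro v w h
    have h1 : κ (v : V) = κ (w : V) := congrArg Subtype.val h
    have h2 : κ ((v : V) - w) = 0 := by rw [map_sub, h1, sub_self]
    have h3 := hfix _ h2
    have h4 : ψ g ((v : V) - w) = e • ((v : V) - w) := mem_eig.1 (Submodule.sub_mem _ v.2 w.2)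
    rw [h3] at h4
    have h5 : (1 - e) • ((v : V) - w) = 0 := by
      rw [sub_smul, one_smul, ← h4, sub_self]
    rcases smul_eq_zero.1 h5 with h6 | h6
    · exact absurd (sub_eq_zero.1 h6).symm he
    · exact Subtype.ext (sub_eq_zero.1 h6)
  · rintro ⟨u, hu⟩
    obtain ⟨v, hv⟩ := K.surj u
    set w : V := ψ g v - e • v with hw
    have h1 : κ w = 0 := by
      funext i
      have : κ w i = κ (ψ g v) i - (e • κ v) i := by rw [hw, map_sub, map_smul]; rfl
      rw [this, K.nat, hv, hu]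
      exact sub_self _
    have h2 := hfix w h1
    have he1 : e - 1 ≠ 0 := sub_ne_zero.2 he
    refine ⟨⟨v + (e - 1)⁻¹ • w, ?_⟩, ?_⟩
    · rw [mem_eig, map_add, map_smul, h2]
      have h3 : ψ g v = w + e • v := by rw [hw]; abel
      rw [h3, smul_add, smul_smul]
      have h4 : e * (e - 1)⁻¹ = 1 + (e - 1)⁻¹ := by
        field_simp
        ring
      rw [h4, add_smul, one_smul]
      abel
    · apply Subtype.ext
      show κ (v + (e - 1)⁻¹ • w) = u
      rw [map_add, map_smul, h1, smul_zero, add_zero, hv]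

theorem Nt.card_ker [Finite F] [FiniteDimensional F V] (K : Nt ψ κ) :
    Nat.card (LinearMap.ker κ) * Nat.card F ^ (2 * d) = Nat.card V := by
  have h1 := Sg.card_ker_mul_range κ.toAddMonoidHom ⊤
  rw [top_inf_eq] at h1
  have h2 : (⊤ : AddSubgroup V).map κ.toAddMonoidHom = ⊤ := by
    rw [← AddMonoidHom.range_eq_map]
    exact AddMonoidHom.range_eq_top.2 K.surj
  have h3 : Nat.card κ.toAddMonoidHom.ker = Nat.card (LinearMap.ker κ) := rfl
  rw [h2, AddSubgroup.card_top, AddSubgroup.card_top, h3] at h1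
  have h4 : Nat.card (Fin d → Fin 2 → F) = Nat.card F ^ (2 * d) := by
    rw [Nat.card_fun, Nat.card_fun, Nat.card_fin, Nat.card_fin, ← pow_mul]
  rw [h4] at h1
  exact h1

/-- a nontrivial element of `SL₂` with a nonzero fixed vector satisfies `(g - 1)² = 0` -/
theorem sq_zero (g : SpecialLinearGroup (Fin 2) F) {w : Fin 2 → F} (hw : w ≠ 0) (h : g.1.mulVec w = w) (u : Fin 2 → F) :
    g.1.mulVec (g.1.mulVec u - u) = g.1.mulVec u - u := by
  have hdet : g.1.det = 1 := g.2
  have h1 : (g.1 - 1).det = 0 := by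
    rw [← Matrix.exists_mulVec_eq_zero_iff]
    exact ⟨w, hw, by rw [Matrix.sub_mulVec, Matrix.one_mulVec, h, sub_self]⟩
  rw [Matrix.det_fin_two] at h1 hdet
  have e00 : (g.1 - 1) 0 0 = g.1 0 0 - 1 := rfl
  have e11 : (g.1 - 1) 1 1 = g.1 1 1 - 1 := rfl
  have e01 : (g.1 - 1) 0 1 = g.1 0 1 := by simp
  have e10 : (g.1 - 1) 1 0 = g.1 1 0 := by simp
  rw [e00, e11, e01, e10] at h1
  set a := g.1 0 0
  set b := g.1 0 1
  set c := g.1 1 0
  set e := g.1 1 1
  have h2 : a + e = 2 := by linear_combination (-1 : F) * h1 + hdet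
  have h3 : (g.1 - 1) * (g.1 - 1) = 0 := by
    ext i j
    rw [Matrix.mul_apply, Fin.sum_univ_two]
    fin_cases i <;> fin_cases j <;> simp only [Fin.zero_eta, Fin.mk_one, Fin.isValue, e00, e01, e10, e11,
      Matrix.zero_apply]
    · linear_combination (a - 1) * h2 - h1
    · linear_combination b * h2
    · linear_combination c * h2
    · linear_combination (e - 1) * h2 - h1
  have h4 : (g.1 - 1).mulVec ((g.1 - 1).mulVec u) = 0 := by
    rw [Matrix.mulVec_mulVec, h3, Matrix.zero_mulVec]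
  rw [Matrix.sub_mulVec, Matrix.one_mulVec, Matrix.sub_mulVec, Matrix.one_mulVec, sub_eq_zero] at h4
  exact h4

/-- the fixed space of a nontrivial element -/
theorem Nt.card_fix_le [Finite F] [FiniteDimensional F V] (K : Nt ψ κ) {g : SpecialLinearGroup (Fin 2) F} (hg : g ≠ 1) :
    Nat.card (eig (ψ g) 1) ≤ Nat.card F ^ d * Nat.card (LinearMap.ker κ) := by
  have hfV : Finite V := Module.finite_of_finite F
  have h1 := Sg.card_ker_mul_range κ.toAddMonoidHom (eig (ψ g) 1).toAddSubgroup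
  have h2 : Nat.card ((eig (ψ g) 1).toAddSubgroup ⊓ κ.toAddMonoidHom.ker : AddSubgroup V) ≤
      Nat.card (LinearMap.ker κ) := by
    apply Nat.card_le_card_of_injective (fun v => (⟨v.1, v.2.2⟩ : LinearMap.ker κ))
    intro v w h
    have h' := congrArg Subtype.val h
    exact Subtype.ext h'
  have h3 : Nat.card ((eig (ψ g) 1).toAddSubgroup.map κ.toAddMonoidHom) ≤ Nat.card F ^ d := by
    have h4 : Nat.card {w : Fin 2 → F // g.1.mulVec w = w} ≤ Nat.card F := by
      let E : Submodule F (Fin 2 → F) := LinearMap.ker (Matrix.mulVecLin g.1 - LinearMap.id)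
      have h5 : Nat.card {w : Fin 2 → F // g.1.mulVec w = w} = Nat.card E := by
        apply Nat.card_congr
        refine Equiv.subtypeEquivRight fun w => ?_
        show _ ↔ w ∈ LinearMap.ker _
        rw [LinearMap.mem_ker, LinearMap.sub_apply, sub_eq_zero]
        rfl
      have h6 : E ≠ ⊤ := by
        intro h7
        apply hg
        apply Subtype.ext
        ext i j
        have h8 : (Pi.single j (1 : F) : Fin 2 → F) ∈ E := by rw [h7]; trivial
        rw [LinearMap.mem_ker, LinearMap.sub_apply, sub_eq_zero] at h8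
        have h9 : g.1.mulVec (Pi.single j (1 : F)) i = (Pi.single j (1 : F) : Fin 2 → F) i := congrFun h8 i
        rw [Matrix.mulVec_single_one] at h9
        have h10 : g.1 i j = (Pi.single j (1 : F) : Fin 2 → F) i := h9
        rw [h10]
        show (Pi.single j (1 : F) : Fin 2 → F) i = (1 : Matrix (Fin 2) (Fin 2) F) i j
        rw [Pi.single_apply, Matrix.one_apply]
      have h7 : finrank F E < 2 := by
        have := Submodule.finrank_lt h6
        rwa [Module.finrank_fin_fun] at this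
      have h8 : Nat.card E = Nat.card F ^ finrank F E := Module.natCard_eq_pow_finrank
      rw [h5, h8]
      calc Nat.card F ^ finrank F E ≤ Nat.card F ^ 1 := Nat.pow_le_pow_right Nat.card_pos (by omega)
        _ = Nat.card F := pow_one _
    refine le_trans ?_ (Nat.pow_le_pow_left h4 d)
    rw [← card_pi]
    apply Nat.card_le_card_of_injective (fun u : (eig (ψ g) 1).toAddSubgroup.map κ.toAddMonoidHom =>
      (⟨u.1, by
        obtain ⟨u, v, hv, rfl⟩ := u
        intro i
        have h5 : ψ g v = (1 : F) • v := mem_eig.1 hv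
        rw [one_smul] at h5
        show g.1.mulVec (κ v i) = κ v i
        rw [← K.nat, h5]⟩ : {u : Fin d → Fin 2 → F // ∀ i, g.1.mulVec (u i) = u i}))
    intro u w h
    have h' := congrArg Subtype.val h
    exact Subtype.ext h'
  have h4 : Nat.card (eig (ψ g) 1).toAddSubgroup = Nat.card (eig (ψ g) 1) := rfl
  rw [← h4, ← h1, mul_comm]
  exact Nat.mul_le_mul h3 h2

theorem Nt.ker_le (K : Nt ψ κ) (g : SpecialLinearGroup (Fin 2) F) : LinearMap.ker κ ≤ eig (ψ g) 1 := by
  intro v hv
  rw [mem_eig, one_smul]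
  apply K.fix
  intro i
  rw [LinearMap.mem_ker] at hv
  rw [hv]
  exact Matrix.mulVec_zero _

/-- if the fixed space is big then `(ψ g - 1)² = 0` -/
theorem Nt.sq (K : Nt ψ κ) {g : SpecialLinearGroup (Fin 2) F} (h : ¬ eig (ψ g) 1 ≤ LinearMap.ker κ) (v : V) :
    ψ g (ψ g v - v) = ψ g v - v := by
  obtain ⟨w, hw, hw'⟩ := SetLike.not_le_iff_exists.1 h
  rw [mem_eig, one_smul] at hw
  have h1 : κ w ≠ 0 := hw'
  obtain ⟨i, hi⟩ := Function.ne_iff.1 h1
  have h2 : g.1.mulVec (κ w i) = κ w i := by rw [← K.nat, hw]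
  apply K.fix
  intro j
  have h3 : κ (ψ g v - v) j = g.1.mulVec (κ v j) - κ v j := by
    rw [map_sub]
    show κ (ψ g v) j - κ v j = _
    rw [K.nat]
  rw [h3]
  exact sq_zero g hi h2 (κ v j)

end nat

/-! ### The main criterion -/

section main

variable {F V G : Type*} [Field F] [Finite F] [AddCommGroup V] [Module F V] [FiniteDimensional F V] [Group G]
variable {S : Type*} [Group S] [Finite S]
variable {ρ : G →* (V ≃ₗ[F] V)} {π : G →* S} {P f N m l : ℕ}
variable {ψ : SpecialLinearGroup (Fin 2) F →* (V ≃ₗ[F] V)} {d : ℕ} {κ : V →ₗ[F] (Fin d → Fin 2 → F)}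

theorem Num.cardF_pow (D : Num F V P f N m l) (j : ℕ) : Nat.card F ^ j = P ^ (f * j) := by
  rw [D.cardF, pow_mul]

theorem Num.pow_le_iff (D : Num F V P f N m l) {i j : ℕ} : Nat.card F ^ i ≤ Nat.card F ^ j ↔ i ≤ j := by
  apply Nat.pow_le_pow_iff_right
  rw [D.cardF]
  exact Nat.one_lt_pow D.f0.ne' D.pp.one_lt

theorem Num.card' (D : Num F V P f N m l) : Nat.card V = Nat.card F ^ N := by
  rw [Module.natCard_eq_pow_finrank (K := F) (V := V), D.rank]

theorem comm_ad {a b : G} (h : Commute a b) (v : V) : ρ a (ρ b v) = ρ b (ρ a v) := by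
  rw [← LinearEquiv.mul_apply, ← map_mul, h.eq, map_mul, LinearEquiv.mul_apply]

/-- the common part: `y` commutes with a Zsigmondy element `x`; if the fixed space of `y` is not too small then `y` is
trivial on `V₁` and the fixed space is contained in `V₂` or contains `V₁` -/
theorem Num.dich (D : Num F V P f N m l) {x y : G} (hsg : Sg (ad (ρ x)) P l (f * m) (f * N)) (hxy : Commute y x) :
    (∀ v ∈ (dm (ad (ρ x))).range, ρ y v = v) ∨ Nat.card (eig (ρ y) 1) * Nat.card F ^ m ≤ Nat.card F ^ N := by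
  have hfV : Finite V := Module.finite_of_finite F
  have hc : ∀ v, dm (ad (ρ y)) (ad (ρ x) v) = ad (ρ x) (dm (ad (ρ y)) v) := by
    intro v
    rw [dm_apply, dm_apply, ad_apply, ad_apply, ad_apply, ad_apply, map_sub, comm_ad hxy]
  rcases hsg.inj_or_zero (dm (ad (ρ y))) hc with h | h
  · left
    intro v hv
    exact sub_eq_zero.1 (h v hv)
  · right
    have h1 : Nat.card (eig (ρ y) 1) ≤ Nat.card (dm (ad (ρ x))).ker := by
      have h2 : ∀ v ∈ eig (ρ y) 1, v ∈ (dm (ad (ρ x))).ker := by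
        intro v hv
        rw [mem_eig, one_smul] at hv
        rw [AddMonoidHom.mem_ker]
        apply h _ ⟨v, rfl⟩
        rw [dm_apply, dm_apply, ad_apply, ad_apply, map_sub, comm_ad hxy, hv, sub_self]
      apply Nat.card_le_card_of_injective (fun v : eig (ρ y) 1 => (⟨v.1, h2 _ v.2⟩ : (dm (ad (ρ x))).ker))
      intro v w e
      have e' := congrArg Subtype.val e
      exact Subtype.ext e'
    calc Nat.card (eig (ρ y) 1) * Nat.card F ^ m ≤ Nat.card (dm (ad (ρ x))).ker * Nat.card F ^ m :=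
          Nat.mul_le_mul_right _ h1
      _ ≤ Nat.card F ^ N := by
          rw [D.cardF_pow, D.cardF_pow]
          exact hsg.card_ker_le

theorem caseA (D : Num F V P f N m l) (K : Nt ψ κ) (hd : 0 < d) (hNd : N ≤ m + d) (hmd : 2 * d < m)
    {x y : G} (hsg : Sg (ad (ρ x)) P l (f * m) (f * N)) (hxy : Commute y x)
    {g : SpecialLinearGroup (Fin 2) F} (hg : g ≠ 1) (hy : ρ y = ψ g) : False := by
  have hfV : Finite V := Module.finite_of_finite F
  have hker := K.card_ker
  rw [D.card'] at hker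
  have hle := K.ker_le g
  have hlec : Nat.card (LinearMap.ker κ) ≤ Nat.card (eig (ψ g) 1) :=
    Nat.card_le_card_of_injective _ (Submodule.inclusion_injective hle)
  have hQ : 0 < Nat.card F := Nat.card_pos
  rcases D.dich hsg hxy with h | h
  · -- `y` is trivial on `V₁`
    have h1 : (dm (ad (ρ x))).range ≤ (eig (ψ g) 1).toAddSubgroup := by
      intro v hv
      show v ∈ eig (ψ g) 1
      rw [mem_eig, one_smul, ← hy]
      exact h v hv
    have h2 : Nat.card F ^ m ≤ Nat.card (dm (ad (ρ x))).range := by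
      rw [D.cardF_pow]
      exact hsg.le_card_range
    have h3 : Nat.card (dm (ad (ρ x))).range ≤ Nat.card (eig (ψ g) 1) :=
      AddSubgroup.card_le_of_le h1
    have h4 := K.card_fix_le hg
    have h5 : Nat.card F ^ (m + 2 * d) ≤ Nat.card F ^ (d + N) := by
      calc Nat.card F ^ (m + 2 * d) = Nat.card F ^ m * Nat.card F ^ (2 * d) := pow_add _ _ _
        _ ≤ (Nat.card F ^ d * Nat.card (LinearMap.ker κ)) * Nat.card F ^ (2 * d) :=
            Nat.mul_le_mul_right _ ((h2.trans h3).trans h4)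
        _ = Nat.card F ^ (d + N) := by rw [mul_assoc, hker, pow_add]
    rw [D.pow_le_iff] at h5
    have hN : N = m + d := by omega
    -- the fixed space is bigger than the kernel
    have h6 : ¬ eig (ψ g) 1 ≤ LinearMap.ker κ := by
      intro hcon
      have h7 : Nat.card (eig (ψ g) 1) ≤ Nat.card (LinearMap.ker κ) :=
        Nat.card_le_card_of_injective _ (Submodule.inclusion_injective hcon)
      have h8 : Nat.card F ^ (m + 2 * d) ≤ Nat.card F ^ N := by
        calc Nat.card F ^ (m + 2 * d) = Nat.card F ^ m * Nat.card F ^ (2 * d) := pow_add _ _ _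
          _ ≤ Nat.card (LinearMap.ker κ) * Nat.card F ^ (2 * d) :=
              Nat.mul_le_mul_right _ ((h2.trans h3).trans h7)
          _ = Nat.card F ^ N := hker
      rw [D.pow_le_iff] at h8
      omega
    have hsq := K.sq h6
    -- a nonzero vector of `V₂`
    have h7 : ∃ v ∈ (dm (ad (ρ x))).ker, v ≠ 0 := by
      by_contra hcon
      push Not at hcon
      have h8 : Nat.card (dm (ad (ρ x))).ker = 1 := by
        rw [Nat.card_eq_one_iff_unique]
        exact ⟨⟨fun a b => Subtype.ext ((hcon _ a.2).trans (hcon _ b.2).symm)⟩, ⟨0⟩⟩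
      have h9 := Sg.card_ker_mul_card_range' (dm (ad (ρ x)))
      rw [h8, one_mul] at h9
      have h10 : Nat.card F ^ (N + 2 * d) ≤ Nat.card F ^ (d + N) := by
        calc Nat.card F ^ (N + 2 * d) = Nat.card F ^ N * Nat.card F ^ (2 * d) := pow_add _ _ _
          _ ≤ (Nat.card F ^ d * Nat.card (LinearMap.ker κ)) * Nat.card F ^ (2 * d) := by
              refine Nat.mul_le_mul_right _ ?_
              rw [← D.card', ← h9]
              exact h3.trans h4
          _ = Nat.card F ^ (d + N) := by rw [mul_assoc, hker, pow_add]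
      rw [D.pow_le_iff] at h10
      omega
    have h8 : ∃ v ∈ (dm (ad (ρ x))).ker, v ≠ 0 ∧ v ∈ eig (ψ g) 1 := by
      obtain ⟨v, hv, hv0⟩ := h7
      by_cases hfx : v ∈ eig (ψ g) 1
      · exact ⟨v, hv, hv0, hfx⟩
      · refine ⟨ψ g v - v, ?_, ?_, ?_⟩
        · rw [AddMonoidHom.mem_ker, dm_apply, sub_eq_zero, ad_apply] at hv ⊢
          rw [← hy, map_sub, ← comm_ad hxy, hv]
        · intro h9
          apply hfx
          rw [mem_eig, one_smul]
          exact sub_eq_zero.1 h9
        · rw [mem_eig, one_smul]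
          exact hsq v
    obtain ⟨v, hv, hv0, hvf⟩ := h8
    have h9 : v ∉ (dm (ad (ρ x))).range := by
      intro h10
      apply hv0
      apply hsg.disj h10
      rw [AddMonoidHom.mem_ker, dm_apply, sub_eq_zero] at hv
      exact hv
    have h10 : Nat.card (dm (ad (ρ x))).range < Nat.card (eig (ψ g) 1) := by
      refine lt_of_le_of_ne h3 fun he => h9 ?_
      have h11 : (dm (ad (ρ x))).range = (eig (ψ g) 1).toAddSubgroup := by
        apply SetLike.coe_injective
        apply Set.eq_of_subset_of_ncard_le h1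
        have e1 : (((eig (ψ g) 1).toAddSubgroup : AddSubgroup V) : Set V).ncard = Nat.card (eig (ψ g) 1) := rfl
        have e2 : ((dm (ad (ρ x))).range : Set V).ncard = Nat.card (dm (ad (ρ x))).range := rfl
        rw [e1, e2, he]
      rw [h11]
      exact hvf
    have h11 : Nat.card F ^ m < Nat.card (eig (ψ g) 1) := lt_of_le_of_lt h2 h10
    have h12 : Nat.card F ^ (m + 2 * d) < Nat.card F ^ (d + N) := by
      calc Nat.card F ^ (m + 2 * d) = Nat.card F ^ m * Nat.card F ^ (2 * d) := pow_add _ _ _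
        _ < (Nat.card F ^ d * Nat.card (LinearMap.ker κ)) * Nat.card F ^ (2 * d) :=
            Nat.mul_lt_mul_of_pos_right (lt_of_lt_of_le h11 h4) (pow_pos hQ _)
        _ = Nat.card F ^ (d + N) := by rw [mul_assoc, hker, pow_add]
    have h13 : m + 2 * d = d + N := by omega
    rw [h13] at h12
    exact lt_irrefl _ h12
  · rw [hy] at h
    have h5 : Nat.card F ^ (m + N) ≤ Nat.card F ^ (2 * d + N) := by
      calc Nat.card F ^ (m + N) = Nat.card (LinearMap.ker κ) * Nat.card F ^ m * Nat.card F ^ (2 * d) := by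
            rw [pow_add, ← hker]; ring
        _ ≤ Nat.card F ^ N * Nat.card F ^ (2 * d) := Nat.mul_le_mul_right _ ((Nat.mul_le_mul_right _ hlec).trans h)
        _ = Nat.card F ^ (2 * d + N) := by rw [pow_add]; ring
    rw [D.pow_le_iff] at h5
    omega

theorem card_diag {g : SpecialLinearGroup (Fin 2) F} {c c' : F} (hcc : c' ≠ c) (hg : g.1 = !![c, 0; 0, c']) :
    Nat.card {w : Fin 2 → F // g.1.mulVec w = c • w} = Nat.card F := by
  apply Nat.card_congr
  refine ⟨fun w => w.1 0, fun a => ⟨![a, 0], ?_⟩, ?_, fun a => rfl⟩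
  · rw [hg]
    ext i
    fin_cases i <;> simp [Matrix.mulVec, dotProduct, Fin.sum_univ_two]
  · rintro ⟨w, hw⟩
    apply Subtype.ext
    have h1 := congrFun hw 1
    rw [hg] at h1
    simp [Matrix.mulVec, dotProduct, Fin.sum_univ_two] at h1
    have h2 : w 1 = 0 := by
      rcases h1 with h1 | h1
      · exact absurd h1 hcc
      · exact h1
    ext i
    fin_cases i
    · rfl
    · exact h2.symm

theorem card_diag' {g : SpecialLinearGroup (Fin 2) F} {c c' : F} (hcc : c ≠ c') (hg : g.1 = !![c, 0; 0, c']) :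
    Nat.card {w : Fin 2 → F // g.1.mulVec w = c' • w} = Nat.card F := by
  apply Nat.card_congr
  refine ⟨fun w => w.1 1, fun a => ⟨![0, a], ?_⟩, ?_, fun a => rfl⟩
  · rw [hg]
    ext i
    fin_cases i <;> simp [Matrix.mulVec, dotProduct, Fin.sum_univ_two]
  · rintro ⟨w, hw⟩
    apply Subtype.ext
    have h1 := congrFun hw 0
    rw [hg] at h1
    simp [Matrix.mulVec, dotProduct, Fin.sum_univ_two] at h1
    have h2 : w 0 = 0 := by
      rcases h1 with h1 | h1
      · exact absurd h1 hcc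
      · exact h1
    ext i
    fin_cases i
    · exact h2.symm
    · rfl

theorem caseB (D : Num F V P f N m l) (R : Rp ρ π) (K : Nt ψ κ) (hd : 0 < d) (hNd : N ≤ m + d)
    {q : ℕ} (hq : q.Prime) (hqP : ¬ q ∣ P) (hqd : ∀ j, 0 < j → j ≤ d → ¬ q ∣ Nat.card F ^ j - 1)
    {x y z s : G} (hsg : Sg (ad (ρ x)) P l (f * m) (f * N)) (hxy : Commute y x) (hy : y ^ q = 1) (hy1 : y ≠ 1)
    {g : SpecialLinearGroup (Fin 2) F} {c c' : F} (hcc : c ≠ c') (hc1 : c ≠ 1) (hc1' : c' ≠ 1)
    (hg : g.1 = !![c, 0; 0, c']) (hz : ρ z = ψ g) (hyz : Commute y (s * z * s⁻¹)) : False := by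
  have hfV : Finite V := Module.finite_of_finite F
  have hqF : ¬ q ∣ Nat.card F := by
    rw [D.cardF]
    exact fun h => hqP (hq.dvd_of_dvd_pow h)
  have hQ : 0 < Nat.card F := Nat.card_pos
  have hyq : ρ y ^ q = 1 := by rw [← map_pow, hy, map_one]
  -- the eigenspaces of the conjugate
  have heig : ∀ e : F, e ≠ 1 → Nat.card {w : Fin 2 → F // g.1.mulVec w = e • w} = Nat.card F →
      Nat.card (eig (ρ (s * z * s⁻¹)) e) = Nat.card F ^ d ∧
      ∀ v ∈ eig (ρ (s * z * s⁻¹)) e, ρ y v = v := by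
    intro e he hcard
    have h1 : Nat.card (eig (ρ (s * z * s⁻¹)) e) = Nat.card F ^ d := by
      rw [← K.card_eig g he hcard]
      apply Nat.card_congr
      have h2 : ∀ v, v ∈ eig (ρ (s * z * s⁻¹)) e ↔ ρ s⁻¹ v ∈ eig (ψ g) e := by
        intro v
        rw [mem_eig, mem_eig, ← hz, map_mul, map_mul, LinearEquiv.mul_apply, LinearEquiv.mul_apply]
        rw [← (ρ s⁻¹).injective.eq_iff, ← LinearEquiv.mul_apply (ρ s⁻¹) (ρ s), ← map_mul, inv_mul_cancel, map_one,
          map_smul]
        rfl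
      refine ⟨fun v => ⟨ρ s⁻¹ v, (h2 v).1 v.2⟩, fun v => ⟨ρ s v, ?_⟩, ?_, ?_⟩
      · rw [h2, ← LinearEquiv.mul_apply, ← map_mul, inv_mul_cancel, map_one]
        exact v.2
      · intro v
        apply Subtype.ext
        show ρ s (ρ s⁻¹ v) = v
        rw [← LinearEquiv.mul_apply, ← map_mul, mul_inv_cancel, map_one]
        rfl
      · intro v
        apply Subtype.ext
        show ρ s⁻¹ (ρ s v) = v
        rw [← LinearEquiv.mul_apply, ← map_mul, inv_mul_cancel, map_one]
        rfl
    refine ⟨h1, ?_⟩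
    apply fixed_of_small hq hqF hqd hyq
    · intro v hv
      rw [mem_eig] at hv ⊢
      rw [← comm_ad hyz, hv, map_smul]
    · have h2 : Nat.card (eig (ρ (s * z * s⁻¹)) e) = Nat.card F ^ finrank F (eig (ρ (s * z * s⁻¹)) e) :=
        Module.natCard_eq_pow_finrank
      rw [h1] at h2
      rw [← D.pow_le_iff, ← h2]
  obtain ⟨hE1, hE2⟩ := heig c hc1 (card_diag hcc.symm hg)
  obtain ⟨hE1', hE2'⟩ := heig c' hc1' (card_diag' hcc hg)
  have hbig : Nat.card F ^ (2 * d) ≤ Nat.card (eig (ρ y) 1) := by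
    have h1 : Nat.card F ^ (2 * d) = Nat.card (eig (ρ (s * z * s⁻¹)) c × eig (ρ (s * z * s⁻¹)) c') := by
      rw [Nat.card_prod, hE1, hE1', two_mul, pow_add]
    rw [h1]
    apply Nat.card_le_card_of_injective (fun v => (⟨v.1.1 + v.2.1, by
      rw [mem_eig, one_smul, map_add, hE2 _ v.1.2, hE2' _ v.2.2]⟩ : eig (ρ y) 1))
    rintro ⟨v, w⟩ ⟨v', w'⟩ h
    have h2 : (v : V) + w = v' + w' := congrArg Subtype.val h
    have h3 : (v : V) - v' = w' - w := by
      rw [sub_eq_sub_iff_add_eq_add, h2, add_comm]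
    have h4 : (v : V) - v' ∈ eig (ρ (s * z * s⁻¹)) c := Submodule.sub_mem _ v.2 v'.2
    have h5 : (v : V) - v' ∈ eig (ρ (s * z * s⁻¹)) c' := by
      rw [h3]
      exact Submodule.sub_mem _ w'.2 w.2
    rw [mem_eig] at h4 h5
    rw [h4] at h5
    have h6 : (c - c') • ((v : V) - v') = 0 := by rw [sub_smul, h5, sub_self]
    have h7 : (v : V) = v' := by
      rcases smul_eq_zero.1 h6 with h7 | h7
      · exact absurd (sub_eq_zero.1 h7) hcc
      · exact sub_eq_zero.1 h7
    have h8 : (w : V) = w' := by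
      rw [h7, sub_self] at h3
      exact (sub_eq_zero.1 h3.symm).symm
    exact Prod.ext (Subtype.ext h7) (Subtype.ext h8)
  rcases D.dich hsg hxy with h | h
  · -- `y` trivial on `V₁` and on `V₂`
    have h2 : ∀ v ∈ eig (ρ x) 1, ρ y v = v := by
      apply fixed_of_small hq hqF hqd hyq
      · intro v hv
        rw [mem_eig, one_smul] at hv ⊢
        rw [← comm_ad hxy, hv]
      · have h3 : Nat.card (eig (ρ x) 1) = Nat.card F ^ finrank F (eig (ρ x) 1) := Module.natCard_eq_pow_finrank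
        have h4 := hsg.card_ker_le
        have h5 : Nat.card (eig (ρ x) 1) ≤ Nat.card (dm (ad (ρ x))).ker := by
          apply Nat.card_le_card_of_injective (fun v : eig (ρ x) 1 => (⟨v.1, by
            rw [AddMonoidHom.mem_ker, dm_apply, sub_eq_zero, ad_apply]
            have := mem_eig.1 v.2
            rwa [one_smul] at this⟩ : (dm (ad (ρ x))).ker))
          intro v w e
          have e' := congrArg Subtype.val e
          exact Subtype.ext e'
        rw [← D.cardF_pow, ← D.cardF_pow] at h4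
        have h6 : Nat.card F ^ (finrank F (eig (ρ x) 1) + m) ≤ Nat.card F ^ N := by
          rw [pow_add, ← h3]
          exact (Nat.mul_le_mul_right _ h5).trans h4
        rw [D.pow_le_iff] at h6
        omega
    apply hy1
    apply R.ext
    intro v
    rw [map_one]
    -- `ρ y (ρ y v - v) = ρ y v - v`
    have h3 : ρ y v - v ∈ eig (ρ x) 1 := by
      rw [mem_eig, one_smul, map_sub, ← comm_ad hxy]
      have h4 := h (ρ x v - v) ⟨v, rfl⟩
      rw [map_sub] at h4
      rw [sub_eq_sub_iff_add_eq_add] at h4 ⊢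
      rw [h4, add_comm]
    have h4 := h2 _ h3
    have h5 : ∀ n : ℕ, (ρ y ^ n) v = v + n • (ρ y v - v) := by
      intro n
      induction n with
      | zero => simp
      | succ n ih =>
        rw [pow_succ', LinearEquiv.mul_apply, ih, map_add, map_nsmul, h4, succ_nsmul]
        abel
    have h6 := h5 q
    rw [hyq] at h6
    have h7 : q • (ρ y v - v) = 0 := left_eq_add.1 h6
    have h8 : P ^ (f * N) • (ρ y v - v) = 0 := by
      rw [← D.card]
      exact card_nsmul_eq_zero'
    have hcop : Nat.Coprime q (P ^ (f * N)) := by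
      rw [Nat.Prime.coprime_iff_not_dvd hq]
      intro h9
      exact hqP (hq.dvd_of_dvd_pow h9)
    have h9 : addOrderOf (ρ y v - v) ∣ Nat.gcd q (P ^ (f * N)) :=
      Nat.dvd_gcd (addOrderOf_dvd_of_nsmul_eq_zero h7) (addOrderOf_dvd_of_nsmul_eq_zero h8)
    rw [hcop] at h9
    have h10 := AddMonoid.addOrderOf_eq_one_iff.1 (Nat.dvd_one.1 h9)
    exact sub_eq_zero.1 h10
  · have h5 : Nat.card F ^ (2 * d + m) ≤ Nat.card F ^ N := by
      rw [pow_add]
      exact (Nat.mul_le_mul_right _ hbig).trans h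
    rw [D.pow_le_iff] at h5
    omega

/-- **The main criterion.** -/
theorem main (D : Num F V P f N m l) (R : Rp ρ π) (K : Nt ψ κ) (hd : 0 < d) (hdN : 0 < N) (hNd : N ≤ m + d)
    (hmd : 2 * d < m) {q : ℕ} (hq : q.Prime) [Finite G] (hqG : q ∣ Nat.card G)
    {x₁ : G} (hx₁ : x₁ ^ l = 1) (hx₁' : x₁ ≠ 1) {x₂ : G} {g₂ : SpecialLinearGroup (Fin 2) F} {c : F}
    (hc : c ^ 2 ≠ 1) (hg₂ : g₂.1 = !![c, 0; 0, c⁻¹]) (hx₂ : ρ x₂ = ψ g₂)
    (h1 : ¬ q ∣ (centralizer ({π x₁} : Set S)).index) (h2 : ¬ q ∣ (centralizer ({π x₂} : Set S)).index)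
    (hcase : (∃ (y : G) (g : SpecialLinearGroup (Fin 2) F), g ≠ 1 ∧ g ^ q = 1 ∧ ρ y = ψ g) ∨
      (¬ q ∣ P ∧ ∀ j, 0 < j → j ≤ d → ¬ q ∣ Nat.card F ^ j - 1)) : False := by
  have hnt := D.nontrivial hdN
  have hsy : ∀ y : G, y ^ q = 1 → ∀ x : G, ¬ q ∣ (centralizer ({π x} : Set S)).index →
      ∃ s : G, Commute (π y) (π (s * x * s⁻¹)) := by
    intro y hy x hx
    obtain ⟨s, hs⟩ := sylow_conj (k := 1) hq hx (y := π y) (by rw [pow_one, ← map_pow, hy, map_one])
    obtain ⟨s, rfl⟩ := R.surj s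
    exact ⟨s, by rwa [map_mul, map_mul, map_inv]⟩
  have hconj : ∀ s : G, (s * x₁ * s⁻¹) ^ l = 1 ∧ s * x₁ * s⁻¹ ≠ 1 := by
    intro s
    refine ⟨by rw [conj_pow, hx₁, mul_one, mul_inv_cancel], fun h => hx₁' ?_⟩
    have : x₁ = s⁻¹ * (s * x₁ * s⁻¹) * s := by group
    rw [this, h]; group
  rcases hcase with ⟨y, g, hg, hgq, hyg⟩ | ⟨hqP, hqd⟩
  · have hyq : y ^ q = 1 := by
      apply R.inj
      rw [map_pow, hyg, ← map_pow, hgq, map_one, map_one]
    obtain ⟨s, hs⟩ := hsy y hyq x₁ h1
    obtain ⟨h3, h4⟩ := hconj s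
    have h5 : Commute (s * x₁ * s⁻¹) y := R.commute hs.symm h3 D.cop
    exact caseA D K hd hNd hmd (D.sg R h3 h4) h5.symm hg hyg
  · have : Fact q.Prime := ⟨hq⟩
    obtain ⟨y, hy⟩ := exists_prime_orderOf_dvd_card' q hqG
    have hyq : y ^ q = 1 := by rw [← hy]; exact pow_orderOf_eq_one y
    have hy1 : y ≠ 1 := by
      rintro rfl
      rw [orderOf_one] at hy
      exact hq.one_lt.ne hy
    obtain ⟨s, hs⟩ := hsy y hyq x₁ h1
    obtain ⟨h3, h4⟩ := hconj s
    have h5 : Commute (s * x₁ * s⁻¹) y := R.commute hs.symm h3 D.cop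
    obtain ⟨t, ht⟩ := hsy y hyq x₂ h2
    have h6 : Commute y (t * x₂ * t⁻¹) := by
      apply R.commute ht hyq
      rw [Nat.Prime.coprime_iff_not_dvd hq]
      have := hqd 1 one_pos hd
      rwa [pow_one] at this
    have hc0 : c ≠ 0 := by
      rintro rfl
      have h7 := g₂.2
      have h8 : g₂.1.det = 0 := by rw [hg₂, Matrix.det_fin_two]; simp
      rw [h8] at h7
      exact zero_ne_one h7
    have hc1 : c ≠ 1 := by
      rintro rfl
      exact hc (one_pow 2)
    have hcc : c ≠ c⁻¹ := by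
      intro h7
      apply hc
      rw [sq]
      nth_rewrite 2 [h7]
      exact mul_inv_cancel₀ hc0
    exact caseB D R K hd hNd hq hqP hqd (D.sg R h3 h4) h5.symm hyq hy1 hcc hc1 (fun h7 => hc1 (inv_eq_one.1 h7)) hg₂
      hx₂ h6

end main

end Cfsg.Agent.H531.TQ
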