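import Cfsg.Agent.H531.TQ.Rows

/-!
# The generic matrix row (`d = 1`)
-/

set_option autoImplicit false
set_option linter.unusedSectionVars false
set_option linter.unusedVariables false
set_option linter.deprecated false

namespace Cfsg.Agent.H531.TQ

open Subgroup Module
open Matrix (SpecialLinearGroup)
open scoped Matrix
open Cfsg.Agent.KFacts.MulOdd.TypeA Cfsg.Agent.H531

universe u v w

theorem row_mat {F : Type v} [Field F] [Fintype F] {ι : Type} [Fintype ι] [DecidableEq ι] {G : Type w} [Group G]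
    [Finite G] {S : Type u} [Group S] [Finite S] (mat : G →* Matrix ι ι F) (hinj : Function.Injective mat)
    (π : G →* S) (hsurj : Function.Surjective π) (hker : ∀ z, π z = 1 → ∃ c : F, mat z = Matrix.scalar ι c)
    {a b : ι} (hab : a ≠ b) {P f m : ℕ} (hP : P.Prime) (hF : Fintype.card F = P ^ f)
    (hNd : Fintype.card ι ≤ m + 1) (hm : 2 < m) (hm' : m ≤ Fintype.card ι)
    (hord : ∀ l : ℕ, l.Prime → (∀ j, l ∣ P ^ j - 1 ↔ f * m ∣ j) → ¬ l ∣ P → l ∣ Nat.card S)
    (h2 : 2 ∣ Nat.card S) (φ : (F ≃+* F) →* MulAut S) (hco : FieldConjS φ)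
    (hφ : ∀ (τ : F ≃+* F) (g : G), ∃ g' : G, π g' = φ τ (π g) ∧ mat g' = (mat g).map τ)
    (U : Subgroup Fˣ) (h : U →* G) (hh : ∀ u : U, mat (h u) = NN a b (diagSL F (u : Fˣ)).1)
    (hU : ∀ τ : F ≃+* F, (∀ u ∈ U, τ ((u : Fˣ) : F) = u) → φ τ = 1)
    (hcase : ∀ q : ℕ, q.Prime → q ∣ Nat.card S →
      (∃ (y : G) (g : SpecialLinearGroup (Fin 2) F), g ≠ 1 ∧ g ^ q = 1 ∧ mat y = NN a b g.1) ∨
      (¬ q ∣ P ∧ ∀ j, 0 < j → j ≤ 1 → ¬ q ∣ Nat.card F ^ j - 1)) : STQ S := by
  have hF' : Nat.card F = P ^ f := by rw [Nat.card_eq_fintype_card, hF]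
  refine STQ.of_set (fun β => ∃ τ : F ≃+* F, β = φ τ) ?_ ?_
  · intro A hA
    obtain ⟨g, hg⟩ := hco A hA
    exact ⟨g, hg⟩
  rintro p q hp hq hpS hqS _ ⟨τ, rfl⟩ hpow hne
  have hτ : τ ≠ 1 := by
    rintro rfl
    exact hne (map_one φ)
  have hpf := dvd_degree φ hP hF hp hpow hne
  have hcomp : ∀ (τ : F ≃+* F) (g : G), ∃ g' : G, π g' = φ τ (π g) ∧
      ∀ v, rho mat g' (frobE ι τ v) = frobE ι τ (rho mat g v) := by
    intro τ g
    obtain ⟨g', h1, h3⟩ := hφ τ g
    refine ⟨g', h1, fun v => ?_⟩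
    rw [rho_apply, rho_apply, h3]
    exact map_mulVec_frobE τ (mat g) v
  obtain ⟨i, hi⟩ : ∃ i : ι, i ≠ a ∧ i ≠ b := by
    by_contra hcon
    push Not at hcon
    have h1 : (Finset.univ : Finset ι) ⊆ {a, b} := by
      intro i _
      by_cases hia : i = a
      · simp [hia]
      · simp [hcon i hia]
    have h3 := Finset.card_le_card h1
    rw [Finset.card_univ] at h3
    have h4 : ({a, b} : Finset ι).card ≤ 2 := Finset.card_le_two
    omega
  obtain ⟨u, hu1, hu2, hu3⟩ := field_x2 h2 φ U (π.comp h) (by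
      intro τ u u' huu
      obtain ⟨g', h1, h3⟩ := hφ τ (h u)
      show φ τ (π (h u)) = π (h u')
      rw [← h1]
      congr 1
      apply hinj
      rw [h3, hh, hh]
      funext x y
      have hinv : (((u' : Fˣ)⁻¹ : Fˣ) : F) = τ (((u : Fˣ)⁻¹ : Fˣ) : F) := by
        rw [Units.val_inv_eq_inv_val, Units.val_inv_eq_inv_val, huu, map_inv₀]
      show τ (NN a b (diagSL F (u : Fˣ)).1 x y) = NN a b (diagSL F (u' : Fˣ)).1 x y
      have e00 : (diagSL F (u' : Fˣ)).1 0 0 = τ ((diagSL F (u : Fˣ)).1 0 0) := huu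
      have e01 : (diagSL F (u' : Fˣ)).1 0 1 = τ ((diagSL F (u : Fˣ)).1 0 1) := (map_zero τ).symm
      have e10 : (diagSL F (u' : Fˣ)).1 1 0 = τ ((diagSL F (u : Fˣ)).1 1 0) := (map_zero τ).symm
      have e11 : (diagSL F (u' : Fˣ)).1 1 1 = τ ((diagSL F (u : Fˣ)).1 1 1) := hinv
      unfold NN
      rw [e00, e01, e10, e11]
      split_ifs <;> first | exact map_zero τ | exact map_one τ | rfl)
    (by
      intro u hu
      obtain ⟨c, hc⟩ := hker (h u) hu
      rw [hh] at hc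
      have h1 := congrFun (congrFun hc i) i
      have h3 := congrFun (congrFun hc a) a
      have h4 : NN a b (diagSL F (u : Fˣ)).1 i i = 1 := by
        unfold NN
        rw [if_neg hi.1, if_neg hi.2, if_pos rfl]
      have h5 : NN a b (diagSL F (u : Fˣ)).1 a a = ((u : Fˣ) : F) := by
        unfold NN
        rw [if_pos rfl, if_pos rfl]
        rfl
      have h6 : ∀ j : ι, Matrix.scalar ι c j j = c := fun j => by simp
      rw [h4, h6] at h1
      rw [h5, h6, ← h1] at h3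
      have h7 : u = 1 := Subtype.ext (Units.ext h3)
      rw [h7, one_pow])
    1 (fun p hp hd => absurd (Nat.dvd_one.1 hd) hp.one_lt.ne') (fun τ hτ => by rw [hU τ hτ, one_pow]) hp hpS hpow hne
  have R : Rp (rho mat) π :=
    { inj := rho_injective hinj
      surj := hsurj
      ker := fun z hz => by
        obtain ⟨c, hc⟩ := hker z hz
        refine ⟨c, fun v => ?_⟩
        rw [rho_apply, hc]
        funext j
        simp [Matrix.mulVec, dotProduct, Matrix.scalar, Matrix.diagonal] }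
  have hro : ∀ (y : G) (g : SpecialLinearGroup (Fin 2) F), mat y = NN a b g.1 → rho mat y = rho (blkMat hab) g := by
    intro y g hy
    ext1 v
    rw [rho_apply, rho_apply, hy]
    rfl
  refine row_core (d := 1) (m := m) (κ := kap a b) (g₂ := diagSL F (u : Fˣ)) (x₂ := h u) hP hF' (V := ι → F)
    (by rw [Module.finrank_fintype_fun_eq_card]) R (nt_blk hab) one_pos hNd (by omega) (by omega) hord h2 (φ τ) hp hq
    hpS hqS hpow hpf hτ (frobE ι τ) (frobE_smul τ) (hcomp τ) hu3 ?_ (hro _ _ (hh u)) hu1 hu2 ?_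
  · show !![(((u : Fˣ)) : F), 0; 0, (((u : Fˣ)⁻¹ : Fˣ) : F)] = _
    rw [Units.val_inv_eq_inv_val]
  · rcases hcase q hq hqS with ⟨y, g, h1, h3, h4⟩ | h1
    · exact Or.inl ⟨y, g, h1, h3, hro _ _ h4⟩
    · exact Or.inr h1

end Cfsg.Agent.H531.TQ
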