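import Cfsg.Agent.H531.TQ.Rows
import Cfsg.Agent.H225.PPow.Long
import Cfsg.Agent.BpExc.TorChev

/-!
# `STQ` from a root group datum
-/

set_option autoImplicit false
set_option linter.unusedSectionVars false

namespace Cfsg.Agent.H531.TQ

open CoxeterSystem Subgroup
open Cfsg.Agent.ChevalleyStructure.CoxeterGeom Cfsg.Agent.Tits.Roots Cfsg.Agent.Tits.Core
  Cfsg.Agent.Tits.RootComb Cfsg.Agent.Tits.Exchange Cfsg.Agent.Nodes.Reps Cfsg.Agent.Nodes.BNOf
  Cfsg.Agent.Nodes.StabComb Cfsg.Agent.Nodes.Bruhat Cfsg.Agent.Nodes.OppDec Cfsg.Agent.Nodes.LeviDec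
  Cfsg.Agent.Nodes.NormX Cfsg.Agent.Nodes.Coroot Cfsg.Agent.KFacts.RgdPar Cfsg.Agent.KFacts.RgdSL
  Cfsg.Agent.KFacts.RgdTI

section Abs

variable {I W Y : Type*} [Fintype I] [DecidableEq I] [Group W] [Group Y] {M : CoxeterMatrix I}
  {cs : CoxeterSystem M W} {A : I → I → ℤ} {h : IsCartan M A} {p : ℕ} {T : Subgroup Y} {n : I → Y}
  {X : (I → ℤ) → Subgroup Y}

/-- If `y ∈ T` with `y ^ q = 1` does not commute with `v ∈ X a`, then `q` divides the class size of `v`. -/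
theorem dvd_index_of_LR [Finite W] {R : RGD cs h p T n X} (hG : GG cs h T X = ⊤)
    (hTc : ∀ s ∈ T, ∀ t ∈ T, s * t = t * s) {a : I → ℤ} (L : LR R a) {v : Y} (hv : v ∈ X a) (hv1 : v ≠ 1)
    {q : ℕ} (hq : q.Prime) {y : Y} (hy : y ∈ T) (hyq : y ^ q = 1) (hyv : y * v ≠ v * y) :
    q ∣ (centralizer ({v} : Set Y)).index := by
  have hmem : ∀ g : Y, g ∈ GG cs h T X := fun g => by rw [hG]; exact mem_top g
  set C : Subgroup Y := centralizer ({v} : Set Y) with hC
  have hCm : ∀ g, g ∈ C ↔ g * v = v * g := fun g => mem_centralizer_singleton_iff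
  set PP : Subgroup Y := PS T X (Ge cs h a) with hPP
  have hCP : C ≤ PP := fun g hg => L.le_PS_of_comm (hmem g) hv hv1 ((hCm g).1 hg)
  have hT : T ≤ Subgroup.normalizer (RGD.Sup X (Ge cs h a) : Set Y) := R.T_le_normalizer fun x hx => hx.1
  have hform : ∀ g ∈ PP, ∃ t ∈ T, ∃ r ∈ RGD.Sup X (Ge cs h a), g = t * r := by
    intro g hg
    have h2 : g ∈ ((PS T X (Ge cs h a) : Subgroup Y) : Set Y) := hg
    unfold PS at h2
    rw [Subgroup.coe_mul_of_left_le_normalizer_right _ _ hT, Set.mem_mul] at h2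
    obtain ⟨t, ht, r, hr, e⟩ := h2
    exact ⟨t, ht, r, hr, e.symm⟩
  have htor : ∀ t ∈ T, ∀ w ∈ X a, t * w * t⁻¹ ∈ X a := by
    intro t ht w hw
    rw [← R.tor a L.root t ht]
    exact conj_mem_cj.2 hw
  have hnorm : (C.subgroupOf PP).Normal := by
    constructor
    rintro ⟨c, hcP⟩ hc ⟨g, hg⟩
    rw [mem_subgroupOf] at hc ⊢
    have hc' : c * v = v * c := (hCm c).1 hc
    obtain ⟨t, ht, htv, r, hr, rfl⟩ := (L.mem_centralizer (hmem c) hv hv1).1 hc'
    obtain ⟨s, hs, r', hr', rfl⟩ := hform g hg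
    show s * r' * (t * r) * (s * r')⁻¹ ∈ C
    rw [hCm]
    -- `v' = s⁻¹ v s`
    set v' : Y := s⁻¹ * v * s with hv'
    have hv'X : v' ∈ X a := by
      have := htor s⁻¹ (inv_mem hs) v hv
      rwa [inv_inv] at this
    have e1 : r' * v' = v' * r' := L.comm' hr' hv'X
    have e2 : r * v' = v' * r := L.comm' hr hv'X
    have e3 : t * v' = v' * t := by
      have h4 : t * s⁻¹ = s⁻¹ * t := hTc t ht s⁻¹ (inv_mem hs)
      rw [hv']
      calc t * (s⁻¹ * v * s) = t * s⁻¹ * v * s := by group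
        _ = s⁻¹ * (t * v) * s := by rw [h4]; group
        _ = s⁻¹ * (v * t) * s := by rw [htv]
        _ = s⁻¹ * v * (t * s) := by group
        _ = s⁻¹ * v * (s * t) := by rw [hTc t ht s hs]
        _ = _ := by group
    have e4 : v * (s * r') = s * r' * v' := by
      have : v * s = s * v' := by rw [hv']; group
      rw [← mul_assoc, this, mul_assoc, ← e1]; group
    have e5 : (s * r')⁻¹ * v = v' * (s * r')⁻¹ := by
      rw [inv_mul_eq_iff_eq_mul, ← mul_assoc, ← e4, mul_inv_cancel_right]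
    calc s * r' * (t * r) * (s * r')⁻¹ * v = s * r' * (t * r) * ((s * r')⁻¹ * v) := by group
      _ = s * r' * (t * (r * v')) * (s * r')⁻¹ := by rw [e5]; group
      _ = s * r' * (t * v' * r) * (s * r')⁻¹ := by rw [e2]; group
      _ = (s * r' * v') * (t * r) * (s * r')⁻¹ := by rw [e3]; group
      _ = v * (s * r' * (t * r) * (s * r')⁻¹) := by rw [← e4]; group
  have hyP : y ∈ PP := by
    rw [hPP]; unfold PS
    exact Subgroup.mem_sup_left hy
  have h1 : orderOf (QuotientGroup.mk (⟨y, hyP⟩ : ↥PP) : ↥PP ⧸ C.subgroupOf PP) = q := by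
    have : Fact q.Prime := ⟨hq⟩
    apply orderOf_eq_prime
    · rw [← QuotientGroup.mk_pow]
      have : (⟨y, hyP⟩ : ↥PP) ^ q = 1 := Subtype.ext hyq
      rw [this]; rfl
    · intro h2
      apply hyv
      rw [← hCm]
      exact mem_subgroupOf.1 ((QuotientGroup.eq_one_iff _).1 h2)
  have h2 : q ∣ C.relIndex PP := by
    have h3 : C.relIndex PP = Nat.card (↥PP ⧸ C.subgroupOf PP) := rfl
    rw [h3, ← h1]
    exact orderOf_dvd_natCard _
  exact h2.trans (relIndex_dvd_index_of_le hCP)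

/-- The index of the torus is even. -/
theorem two_dvd_index_T [Finite W] (R : RGD cs h p T n X) (i : I) : 2 ∣ T.index := by
  have hnT : n i ∉ T := by
    intro h1
    have h2 : n i ∈ RGD.B cs h T X := RGD.T_le_B h1
    have h3 := R.eq_one_of_mem_B (rp_simple cs R.nsys i) h2
    have h4 := cs.length_simple i
    rw [h3, cs.length_one] at h4
    exact zero_ne_one h4
  have hnN : n i ∈ normalizer (T : Set Y) := R.nsys.norm i
  have h1 : orderOf (QuotientGroup.mk (⟨n i, hnN⟩ : ↥(normalizer (T : Set Y))) :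
      ↥(normalizer (T : Set Y)) ⧸ T.subgroupOf (normalizer (T : Set Y))) = 2 := by
    have : Fact (Nat.Prime 2) := ⟨Nat.prime_two⟩
    apply orderOf_eq_prime
    · rw [← QuotientGroup.mk_pow]
      refine (QuotientGroup.eq_one_iff _).2 ?_
      rw [mem_subgroupOf]
      show (n i) ^ 2 ∈ T
      rw [sq]
      exact R.sq_mem_T i
    · intro h2
      exact hnT (mem_subgroupOf.1 ((QuotientGroup.eq_one_iff _).1 h2))
  have h2 : 2 ∣ T.relIndex (normalizer (T : Set Y)) := by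
    have h3 : T.relIndex (normalizer (T : Set Y)) =
      Nat.card (↥(normalizer (T : Set Y)) ⧸ T.subgroupOf (normalizer (T : Set Y))) := rfl
    rw [h3, ← h1]
    exact orderOf_dvd_natCard _
  exact h2.trans (relIndex_dvd_index_of_le Subgroup.le_normalizer)

/-- The centralizer of a regular element of the torus. -/
theorem centralizer_le_T [Finite W] {F : Type*} [Field F] {xx : (I → ℤ) → F → Y} {χ : (I → ℤ) → Y → F}
    (R : RGD cs h p T n X) (C : KFacts.RgdField.Coords cs h T n X xx χ) (hG : GG cs h T X = ⊤)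
    (hTc : ∀ s ∈ T, ∀ t ∈ T, s * t = t * s) (hA : BpExc.TorCent.ChAdd cs h T χ) {x : Y} (hx : x ∈ T)
    (hinj : ∀ a b, IsRoot cs h a → IsRoot cs h b → χ a x = χ b x → ht a = ht b)
    (hne : ∀ a, IsRoot cs h a → χ a x ≠ 1) : centralizer ({x} : Set Y) ≤ T := by
  intro g hg
  obtain ⟨w, hw, k, hkc, hk, hm⟩ := BpExc.TorCent.exists_form R C hx hTc hA (by rw [hG]; exact mem_top g) hg
  have hw1 : w = 1 := by
    refine BpExc.Fix.eq_one_of_fix (cs := cs) (h := h) Nodes.Slope.htHom (fun y hy => Nodes.Slope.ht_ne_zero hy)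
      fun y => ?_
    have e : y = ∑ k, y k • (sr k : I → ℤ) := by
      funext j
      rw [Finset.sum_apply]
      simp only [Pi.smul_apply, smul_eq_mul]
      rw [Finset.sum_eq_single j]
      · rw [sr_self, mul_one]
      · intro k _ hk
        rw [sr_ne (Ne.symm hk), mul_zero]
      · intro hj
        exact absurd (Finset.mem_univ j) hj
    rw [e, map_sum, map_sum, map_sum]
    refine Finset.sum_congr rfl fun k _ => ?_
    rw [map_smul, map_zsmul, map_zsmul]
    congr 1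
    exact hinj _ _ ((isRoot_sr cs h k).act w) (isRoot_sr cs h k)
      ((BpExc.TorCent.mem_PP.1 hw).1 (sr k) (isRoot_sr cs h k))
  rw [hw1] at hk
  have hkT := hk.mem_of_one
  have hMM : BpExc.TorCent.MM cs h X χ x ≤ T := by
    refine RGD.Sup_le fun a ha => ?_
    exact absurd ha.2 (hne a ha.1)
  have h1 : k⁻¹ * g ∈ T := (sup_le hMM le_rfl : _ ≤ T) hm
  have h2 : g = k * (k⁻¹ * g) := by group
  rw [h2]
  exact mul_mem hkT h1

/-- **The abstract row.** -/
theorem rgd_row [Finite W] [Finite Y] {R : RGD cs h p T n X} (hp : p.Prime) (hG : GG cs h T X = ⊤)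
    (hTc : ∀ s ∈ T, ∀ t ∈ T, s * t = t * s) (i : I) {q : ℕ} (hq : q.Prime) (hqY : q ∣ Nat.card Y)
    (β : MulAut Y) {x₁ : Y} (hx₁ : centralizer ({x₁} : Set Y) ≤ T) (hz₁ : β x₁ ∈ zpowers x₁) (hn₁ : β x₁ ≠ x₁)
    {a : I → ℤ} (L : LR R a) {v : Y} (hv : v ∈ X a) (hv1 : v ≠ 1) (hβv : β v = v) {h₂ : Y} (hh₂ : h₂ ∈ T)
    (hc : h₂ * v = v * h₂) (hz₂ : β h₂ ∈ zpowers h₂) (hn₂ : β h₂ ≠ h₂)
    (hT : q ≠ 2 → q ∣ Nat.card T → ∃ y ∈ T, y ^ q = 1 ∧ y * v ≠ v * y) :
    ∃ x : Y, β x ∈ zpowers x ∧ β x ≠ x ∧ q ∣ (centralizer ({x} : Set Y)).index := by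
  by_cases h1 : q ∣ T.index
  · exact ⟨x₁, hz₁, hn₁, h1.trans (index_dvd_of_le hx₁)⟩
  have hq2 : q ≠ 2 := by
    rintro rfl
    exact h1 (two_dvd_index_T R i)
  have hqT : q ∣ Nat.card T := by
    rw [← T.card_mul_index] at hqY
    exact (hq.dvd_mul.1 hqY).resolve_right h1
  obtain ⟨y, hy, hyq, hyv⟩ := hT hq2 hqT
  have h3 := dvd_index_of_LR hG hTc L hv hv1 hq hy hyq hyv
  -- orders
  obtain ⟨k, hk⟩ : ∃ k : ℕ, orderOf v = p ^ k := by
    have hpf : Fact p.Prime := ⟨hp⟩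
    have := (R.pgrp' L.root)
    obtain ⟨k, hk⟩ := (IsPGroup.iff_orderOf.1 this) ⟨v, hv⟩
    refine ⟨k, ?_⟩
    rw [← hk, Subgroup.orderOf_mk]
  have hcop : (orderOf h₂).Coprime (orderOf v) := by
    rw [hk]
    apply Nat.Coprime.pow_right
    refine Nat.Coprime.coprime_dvd_left ?_ R.tcop
    have := orderOf_dvd_natCard (⟨h₂, hh₂⟩ : T)
    rwa [Subgroup.orderOf_mk] at this
  have hcomm : Commute h₂ v := hc
  -- every product of powers is a power of `h₂ v`
  have hpow : ∀ m : ℤ, ∀ m' : ℤ, h₂ ^ m * v ^ m' ∈ zpowers (h₂ * v) := by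
    intro m m'
    have hb := Int.gcd_eq_gcd_ab (orderOf h₂ : ℤ) (orderOf v : ℤ)
    have hg : (Int.gcd (orderOf h₂ : ℤ) (orderOf v : ℤ) : ℤ) = 1 := by
      rw [Int.gcd_natCast_natCast, hcop]; rfl
    rw [hg] at hb
    set A' := Int.gcdA (orderOf h₂ : ℤ) (orderOf v : ℤ)
    set B' := Int.gcdB (orderOf h₂ : ℤ) (orderOf v : ℤ)
    have e1 : h₂ ∈ zpowers (h₂ * v) := by
      refine mem_zpowers_iff.2 ⟨orderOf v * B', ?_⟩
      rw [hcomm.mul_zpow, zpow_mul v, zpow_natCast, pow_orderOf_eq_one, one_zpow, mul_one]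
      have : (orderOf v : ℤ) * B' = 1 - orderOf h₂ * A' := by linarith
      rw [this, zpow_sub, zpow_one, zpow_mul, zpow_natCast, pow_orderOf_eq_one, one_zpow, inv_one, mul_one]
    have e2 : v ∈ zpowers (h₂ * v) := by
      refine mem_zpowers_iff.2 ⟨orderOf h₂ * A', ?_⟩
      rw [hcomm.mul_zpow, zpow_mul h₂, zpow_natCast, pow_orderOf_eq_one, one_zpow, one_mul]
      have : (orderOf h₂ : ℤ) * A' = 1 - orderOf v * B' := by linarith
      rw [this, zpow_sub, zpow_one, zpow_mul, zpow_natCast, pow_orderOf_eq_one, one_zpow, inv_one, mul_one]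
    exact mul_mem (zpow_mem e1 m) (zpow_mem e2 m')
  refine ⟨h₂ * v, ?_, ?_, ?_⟩
  · obtain ⟨m, hm⟩ := mem_zpowers_iff.1 hz₂
    rw [map_mul, hβv, ← hm]
    have := hpow m 1
    rwa [zpow_one] at this
  · intro h4
    rw [map_mul, hβv] at h4
    exact hn₂ (mul_right_cancel h4)
  · refine h3.trans (index_dvd_of_le ?_)
    intro g hg
    rw [mem_centralizer_singleton_iff] at hg ⊢
    have hv' : v ∈ zpowers (h₂ * v) := by
      have := hpow 0 1
      rwa [zpow_zero, one_mul, zpow_one] at this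
    obtain ⟨m, hm⟩ := mem_zpowers_iff.1 hv'
    have h5 : Commute g (h₂ * v) := hg
    rw [← hm]
    exact h5.zpow_right m

end Abs

end Cfsg.Agent.H531.TQ
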